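import Mathlib.Data.List.Range

/-! Data. -/

set_option autoImplicit false
set_option maxRecDepth 100000

namespace Cfsg.Agent.Fus.E6Fi22

/-- The entries added to the identity by the root elements. -/
def rootEnts : List (List (ℕ × ℕ × ℕ)) := [
  [(0, 77, 1), (3, 77, 1), (5, 77, 1), (6, 1, 1), (6, 77, 2), (7, 52, 1), (8, 53, 1), (9, 54, 1), (10, 55, 1), (11, 56, 1), (12, 57, 1), (13, 58, 1), (14, 59, 1), (15, 60, 1), (16, 61, 1), (22, 67, 1), (23, 68, 1), (24, 69, 1), (25, 70, 1), (26, 71, 1), (27, 72, 1), (28, 73, 1), (29, 74, 1), (30, 75, 1), (31, 76, 1)],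
  [(0, 76, 1), (1, 76, 1), (3, 76, 1), (5, 76, 1), (6, 31, 1), (7, 1, 1), (7, 3, 1), (7, 76, 2), (8, 45, 1), (9, 46, 1), (10, 47, 1), (11, 49, 1), (12, 50, 1), (13, 51, 1), (17, 59, 1), (18, 60, 1), (19, 61, 1), (22, 64, 1), (23, 65, 1), (24, 66, 1), (32, 70, 1), (33, 71, 1), (34, 72, 1), (36, 73, 1), (37, 74, 1), (38, 75, 1), (52, 77, 1)],
  [(0, 75, 1), (1, 75, 1), (5, 75, 1), (6, 30, 1), (7, 38, 1), (8, 2, 1), (8, 3, 1), (8, 4, 1), (8, 75, 2), (9, 43, 1), (10, 44, 1), (11, 48, 1), (14, 50, 1), (15, 51, 1), (17, 57, 1), (18, 58, 1), (20, 61, 1), (22, 63, 1), (25, 65, 1), (26, 66, 1), (32, 68, 1), (33, 69, 1), (35, 72, 1), (39, 73, 1), (40, 74, 1), (45, 76, 1), (53, 77, 1)],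
  [(0, 74, 1), (1, 74, 1), (4, 74, 1), (5, 74, 1), (6, 29, 1), (7, 37, 1), (8, 40, 1), (9, 2, 1), (9, 4, 1), (9, 5, 1), (9, 74, 2), (10, 42, 1), (12, 48, 1), (14, 49, 1), (16, 51, 1), (17, 56, 1), (19, 58, 1), (20, 60, 1), (23, 63, 1), (25, 64, 1), (27, 66, 1), (32, 67, 1), (34, 69, 1), (35, 71, 1), (41, 73, 1), (43, 75, 1), (46, 76, 1), (54, 77, 1)],
  [(0, 73, 1), (1, 73, 1), (4, 73, 1), (6, 28, 1), (7, 36, 1), (8, 39, 1), (9, 41, 1), (10, 2, 1), (10, 5, 1), (10, 73, 2), (13, 48, 1), (15, 49, 1), (16, 50, 1), (18, 56, 1), (19, 57, 1), (20, 59, 1), (24, 63, 1), (26, 64, 1), (27, 65, 1), (33, 67, 1), (34, 68, 1), (35, 70, 1), (42, 74, 1), (44, 75, 1), (47, 76, 1), (55, 77, 1)],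
  [(0, 72, 1), (1, 72, 1), (2, 72, 1), (5, 72, 1), (6, 27, 1), (7, 34, 1), (8, 35, 1), (11, 0, 1), (11, 2, 1), (11, 4, 1), (11, 72, 2), (12, 43, 1), (13, 44, 1), (14, 46, 1), (15, 47, 1), (17, 54, 1), (18, 55, 1), (21, 61, 1), (22, 62, 1), (28, 65, 1), (29, 66, 1), (36, 68, 1), (37, 69, 1), (39, 70, 1), (40, 71, 1), (48, 75, 1), (49, 76, 1), (56, 77, 1)],
  [(0, 71, 1), (1, 71, 1), (2, 71, 1), (4, 71, 1), (5, 71, 1), (6, 26, 1), (7, 33, 1), (9, 35, 1), (11, 40, 1), (12, 0, 1), (12, 2, 1), (12, 3, 1), (12, 4, 1), (12, 5, 1), (12, 71, 2), (13, 42, 1), (14, 45, 1), (16, 47, 1), (17, 53, 1), (19, 55, 1), (21, 60, 1), (23, 62, 1), (28, 64, 1), (30, 66, 1), (36, 67, 1), (38, 69, 1), (41, 70, 1), (43, 72, 1), (48, 74, 1), (50, 76, 1), (57, 77, 1)],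
  [(0, 70, 1), (1, 70, 1), (2, 70, 1), (4, 70, 1), (6, 25, 1), (7, 32, 1), (10, 35, 1), (11, 39, 1), (12, 41, 1), (13, 0, 1), (13, 2, 1), (13, 3, 1), (13, 5, 1), (13, 70, 2), (15, 45, 1), (16, 46, 1), (18, 53, 1), (19, 54, 1), (21, 59, 1), (24, 62, 1), (29, 64, 1), (30, 65, 1), (37, 67, 1), (38, 68, 1), (42, 71, 1), (44, 72, 1), (48, 73, 1), (51, 76, 1), (58, 77, 1)],
  [(0, 69, 1), (1, 69, 1), (2, 69, 1), (3, 69, 1), (4, 69, 1), (5, 69, 1), (6, 24, 1), (8, 33, 1), (9, 34, 1), (11, 37, 1), (12, 38, 1), (14, 0, 1), (14, 1, 1), (14, 3, 1), (14, 5, 1), (14, 69, 2), (15, 42, 1), (16, 44, 1), (17, 52, 1), (20, 55, 1), (21, 58, 1), (25, 62, 1), (28, 63, 1), (31, 66, 1), (39, 67, 1), (41, 68, 1), (45, 71, 1), (46, 72, 1), (49, 74, 1), (50, 75, 1), (59, 77, 1)],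
  [(0, 68, 1), (1, 68, 1), (2, 68, 1), (3, 68, 1), (4, 68, 1), (6, 23, 1), (8, 32, 1), (10, 34, 1), (11, 36, 1), (13, 38, 1), (14, 41, 1), (15, 0, 1), (15, 1, 1), (15, 3, 1), (15, 4, 1), (15, 5, 1), (15, 68, 2), (16, 43, 1), (18, 52, 1), (20, 54, 1), (21, 57, 1), (26, 62, 1), (29, 63, 1), (31, 65, 1), (40, 67, 1), (42, 69, 1), (45, 70, 1), (47, 72, 1), (49, 73, 1), (51, 75, 1), (60, 77, 1)],
  [(0, 67, 1), (1, 67, 1), (2, 67, 1), (3, 67, 1), (6, 22, 1), (9, 32, 1), (10, 33, 1), (12, 36, 1), (13, 37, 1), (14, 39, 1), (15, 40, 1), (16, 0, 1), (16, 1, 1), (16, 4, 1), (16, 67, 2), (19, 52, 1), (20, 53, 1), (21, 56, 1), (27, 62, 1), (30, 63, 1), (31, 64, 1), (43, 68, 1), (44, 69, 1), (46, 70, 1), (47, 71, 1), (50, 73, 1), (51, 74, 1), (61, 77, 1)],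
  [(0, 66, 1), (2, 66, 1), (3, 66, 1), (4, 66, 1), (5, 66, 1), (7, 24, 1), (8, 26, 1), (9, 27, 1), (11, 29, 1), (12, 30, 1), (14, 31, 1), (17, 0, 1), (17, 1, 1), (17, 5, 1), (17, 66, 2), (18, 42, 1), (19, 44, 1), (20, 47, 1), (21, 51, 1), (32, 62, 1), (36, 63, 1), (39, 64, 1), (41, 65, 1), (52, 69, 1), (53, 71, 1), (54, 72, 1), (56, 74, 1), (57, 75, 1), (59, 76, 1)],
  [(0, 65, 1), (2, 65, 1), (3, 65, 1), (4, 65, 1), (7, 23, 1), (8, 25, 1), (10, 27, 1), (11, 28, 1), (13, 30, 1), (15, 31, 1), (17, 41, 1), (18, 0, 1), (18, 1, 1), (18, 4, 1), (18, 5, 1), (18, 65, 2), (19, 43, 1), (20, 46, 1), (21, 50, 1), (33, 62, 1), (37, 63, 1), (40, 64, 1), (42, 66, 1), (52, 68, 1), (53, 70, 1), (55, 72, 1), (56, 73, 1), (58, 75, 1), (60, 76, 1)],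
  [(0, 64, 1), (2, 64, 1), (3, 64, 1), (7, 22, 1), (9, 25, 1), (10, 26, 1), (12, 28, 1), (13, 29, 1), (16, 31, 1), (17, 39, 1), (18, 40, 1), (19, 0, 1), (19, 1, 1), (19, 3, 1), (19, 4, 1), (19, 64, 2), (20, 45, 1), (21, 49, 1), (34, 62, 1), (38, 63, 1), (43, 65, 1), (44, 66, 1), (52, 67, 1), (54, 70, 1), (55, 71, 1), (57, 73, 1), (58, 74, 1), (61, 76, 1)],
  [(0, 63, 1), (2, 63, 1), (8, 22, 1), (9, 23, 1), (10, 24, 1), (14, 28, 1), (15, 29, 1), (16, 30, 1), (17, 36, 1), (18, 37, 1), (19, 38, 1), (20, 0, 1), (20, 2, 1), (20, 3, 1), (20, 63, 2), (21, 48, 1), (35, 62, 1), (45, 64, 1), (46, 65, 1), (47, 66, 1), (53, 67, 1), (54, 68, 1), (55, 69, 1), (59, 73, 1), (60, 74, 1), (61, 75, 1)],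
  [(0, 62, 1), (11, 22, 1), (12, 23, 1), (13, 24, 1), (14, 25, 1), (15, 26, 1), (16, 27, 1), (17, 32, 1), (18, 33, 1), (19, 34, 1), (20, 35, 1), (21, 2, 1), (21, 62, 2), (48, 63, 1), (49, 64, 1), (50, 65, 1), (51, 66, 1), (56, 67, 1), (57, 68, 1), (58, 69, 1), (59, 70, 1), (60, 71, 1), (61, 72, 1)],
  [(1, 61, 1), (2, 61, 1), (5, 61, 1), (6, 16, 1), (7, 19, 1), (8, 20, 1), (11, 21, 1), (22, 0, 1), (22, 4, 1), (22, 61, 2), (23, 43, 1), (24, 44, 1), (25, 46, 1), (26, 47, 1), (28, 50, 1), (29, 51, 1), (32, 54, 1), (33, 55, 1), (36, 57, 1), (37, 58, 1), (39, 59, 1), (40, 60, 1), (62, 72, 1), (63, 75, 1), (64, 76, 1), (67, 77, 1)],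
  [(1, 60, 1), (2, 60, 1), (4, 60, 1), (5, 60, 1), (6, 15, 1), (7, 18, 1), (9, 20, 1), (12, 21, 1), (22, 40, 1), (23, 0, 1), (23, 3, 1), (23, 4, 1), (23, 5, 1), (23, 60, 2), (24, 42, 1), (25, 45, 1), (27, 47, 1), (28, 49, 1), (30, 51, 1), (32, 53, 1), (34, 55, 1), (36, 56, 1), (38, 58, 1), (41, 59, 1), (43, 61, 1), (62, 71, 1), (63, 74, 1), (65, 76, 1), (68, 77, 1)],
  [(1, 59, 1), (2, 59, 1), (4, 59, 1), (6, 14, 1), (7, 17, 1), (10, 20, 1), (13, 21, 1), (22, 39, 1), (23, 41, 1), (24, 0, 1), (24, 3, 1), (24, 5, 1), (24, 59, 2), (26, 45, 1), (27, 46, 1), (29, 49, 1), (30, 50, 1), (33, 53, 1), (34, 54, 1), (37, 56, 1), (38, 57, 1), (42, 60, 1), (44, 61, 1), (62, 70, 1), (63, 73, 1), (66, 76, 1), (69, 77, 1)],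
  [(1, 58, 1), (2, 58, 1), (3, 58, 1), (4, 58, 1), (5, 58, 1), (6, 13, 1), (8, 18, 1), (9, 19, 1), (14, 21, 1), (22, 37, 1), (23, 38, 1), (25, 0, 1), (25, 1, 1), (25, 2, 1), (25, 3, 1), (25, 5, 1), (25, 58, 2), (26, 42, 1), (27, 44, 1), (28, 48, 1), (31, 51, 1), (32, 52, 1), (35, 55, 1), (39, 56, 1), (41, 57, 1), (45, 60, 1), (46, 61, 1), (62, 69, 1), (64, 74, 1), (65, 75, 1), (70, 77, 1)],
  [(1, 57, 1), (2, 57, 1), (3, 57, 1), (4, 57, 1), (6, 12, 1), (8, 17, 1), (10, 19, 1), (15, 21, 1), (22, 36, 1), (24, 38, 1), (25, 41, 1), (26, 0, 1), (26, 1, 1), (26, 2, 1), (26, 3, 1), (26, 4, 1), (26, 5, 1), (26, 57, 2), (27, 43, 1), (29, 48, 1), (31, 50, 1), (33, 52, 1), (35, 54, 1), (40, 56, 1), (42, 58, 1), (45, 59, 1), (47, 61, 1), (62, 68, 1), (64, 73, 1), (66, 75, 1), (71, 77, 1)],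
  [(1, 56, 1), (2, 56, 1), (3, 56, 1), (6, 11, 1), (9, 17, 1), (10, 18, 1), (16, 21, 1), (23, 36, 1), (24, 37, 1), (25, 39, 1), (26, 40, 1), (27, 0, 1), (27, 1, 1), (27, 2, 1), (27, 4, 1), (27, 56, 2), (30, 48, 1), (31, 49, 1), (34, 52, 1), (35, 53, 1), (43, 57, 1), (44, 58, 1), (46, 59, 1), (47, 60, 1), (62, 67, 1), (65, 73, 1), (66, 74, 1), (72, 77, 1)],
  [(1, 55, 1), (3, 55, 1), (4, 55, 1), (5, 55, 1), (6, 10, 1), (11, 18, 1), (12, 19, 1), (14, 20, 1), (22, 33, 1), (23, 34, 1), (25, 35, 1), (28, 1, 1), (28, 2, 1), (28, 5, 1), (28, 55, 2), (29, 42, 1), (30, 44, 1), (31, 47, 1), (36, 52, 1), (39, 53, 1), (41, 54, 1), (48, 58, 1), (49, 60, 1), (50, 61, 1), (63, 69, 1), (64, 71, 1), (65, 72, 1), (73, 77, 1)],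
  [(1, 54, 1), (3, 54, 1), (4, 54, 1), (6, 9, 1), (11, 17, 1), (13, 19, 1), (15, 20, 1), (22, 32, 1), (24, 34, 1), (26, 35, 1), (28, 41, 1), (29, 1, 1), (29, 2, 1), (29, 4, 1), (29, 5, 1), (29, 54, 2), (30, 43, 1), (31, 46, 1), (37, 52, 1), (40, 53, 1), (42, 55, 1), (48, 57, 1), (49, 59, 1), (51, 61, 1), (63, 68, 1), (64, 70, 1), (66, 72, 1), (74, 77, 1)],
  [(1, 53, 1), (3, 53, 1), (6, 8, 1), (12, 17, 1), (13, 18, 1), (16, 20, 1), (23, 32, 1), (24, 33, 1), (27, 35, 1), (28, 39, 1), (29, 40, 1), (30, 1, 1), (30, 2, 1), (30, 3, 1), (30, 4, 1), (30, 53, 2), (31, 45, 1), (38, 52, 1), (43, 54, 1), (44, 55, 1), (48, 56, 1), (50, 59, 1), (51, 60, 1), (63, 67, 1), (65, 70, 1), (66, 71, 1), (75, 77, 1)],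
  [(1, 52, 1), (6, 7, 1), (14, 17, 1), (15, 18, 1), (16, 19, 1), (25, 32, 1), (26, 33, 1), (27, 34, 1), (28, 36, 1), (29, 37, 1), (30, 38, 1), (31, 3, 1), (31, 52, 2), (45, 53, 1), (46, 54, 1), (47, 55, 1), (49, 56, 1), (50, 57, 1), (51, 58, 1), (64, 67, 1), (65, 68, 1), (66, 69, 1), (76, 77, 1)],
  [(2, 51, 1), (3, 51, 1), (4, 51, 1), (5, 51, 1), (7, 13, 1), (8, 15, 1), (9, 16, 1), (17, 21, 1), (22, 29, 1), (23, 30, 1), (25, 31, 1), (32, 0, 1), (32, 1, 1), (32, 2, 1), (32, 5, 1), (32, 51, 2), (33, 42, 1), (34, 44, 1), (35, 47, 1), (36, 48, 1), (39, 49, 1), (41, 50, 1), (52, 58, 1), (53, 60, 1), (54, 61, 1), (62, 66, 1), (67, 74, 1), (68, 75, 1), (70, 76, 1)],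
  [(2, 50, 1), (3, 50, 1), (4, 50, 1), (7, 12, 1), (8, 14, 1), (10, 16, 1), (18, 21, 1), (22, 28, 1), (24, 30, 1), (26, 31, 1), (32, 41, 1), (33, 0, 1), (33, 1, 1), (33, 2, 1), (33, 4, 1), (33, 5, 1), (33, 50, 2), (34, 43, 1), (35, 46, 1), (37, 48, 1), (40, 49, 1), (42, 51, 1), (52, 57, 1), (53, 59, 1), (55, 61, 1), (62, 65, 1), (67, 73, 1), (69, 75, 1), (71, 76, 1)],
  [(2, 49, 1), (3, 49, 1), (7, 11, 1), (9, 14, 1), (10, 15, 1), (19, 21, 1), (23, 28, 1), (24, 29, 1), (27, 31, 1), (32, 39, 1), (33, 40, 1), (34, 0, 1), (34, 1, 1), (34, 2, 1), (34, 3, 1), (34, 4, 1), (34, 49, 2), (35, 45, 1), (38, 48, 1), (43, 50, 1), (44, 51, 1), (52, 56, 1), (54, 59, 1), (55, 60, 1), (62, 64, 1), (68, 73, 1), (69, 74, 1), (72, 76, 1)],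
  [(2, 48, 1), (8, 11, 1), (9, 12, 1), (10, 13, 1), (20, 21, 1), (25, 28, 1), (26, 29, 1), (27, 30, 1), (32, 36, 1), (33, 37, 1), (34, 38, 1), (35, 0, 1), (35, 3, 1), (35, 48, 2), (45, 49, 1), (46, 50, 1), (47, 51, 1), (53, 56, 1), (54, 57, 1), (55, 58, 1), (62, 63, 1), (70, 73, 1), (71, 74, 1), (72, 75, 1)],
  [(3, 47, 1), (4, 47, 1), (5, 47, 1), (7, 10, 1), (11, 15, 1), (12, 16, 1), (17, 20, 1), (22, 26, 1), (23, 27, 1), (28, 31, 1), (32, 35, 1), (36, 1, 1), (36, 2, 1), (36, 3, 1), (36, 5, 1), (36, 47, 2), (37, 42, 1), (38, 44, 1), (39, 45, 1), (41, 46, 1), (48, 51, 1), (52, 55, 1), (56, 60, 1), (57, 61, 1), (63, 66, 1), (67, 71, 1), (68, 72, 1), (73, 76, 1)],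
  [(3, 46, 1), (4, 46, 1), (7, 9, 1), (11, 14, 1), (13, 16, 1), (18, 20, 1), (22, 25, 1), (24, 27, 1), (29, 31, 1), (33, 35, 1), (36, 41, 1), (37, 1, 1), (37, 2, 1), (37, 3, 1), (37, 4, 1), (37, 5, 1), (37, 46, 2), (38, 43, 1), (40, 45, 1), (42, 47, 1), (48, 50, 1), (52, 54, 1), (56, 59, 1), (58, 61, 1), (63, 65, 1), (67, 70, 1), (69, 72, 1), (74, 76, 1)],
  [(3, 45, 1), (7, 8, 1), (12, 14, 1), (13, 15, 1), (19, 20, 1), (23, 25, 1), (24, 26, 1), (30, 31, 1), (34, 35, 1), (36, 39, 1), (37, 40, 1), (38, 1, 1), (38, 2, 1), (38, 4, 1), (38, 45, 2), (43, 46, 1), (44, 47, 1), (48, 49, 1), (52, 53, 1), (57, 59, 1), (58, 60, 1), (63, 64, 1), (68, 70, 1), (69, 71, 1), (75, 76, 1)],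
  [(4, 44, 1), (5, 44, 1), (8, 10, 1), (11, 13, 1), (14, 16, 1), (17, 19, 1), (22, 24, 1), (25, 27, 1), (28, 30, 1), (32, 34, 1), (36, 38, 1), (39, 3, 1), (39, 4, 1), (39, 5, 1), (39, 44, 2), (40, 42, 1), (41, 43, 1), (45, 47, 1), (49, 51, 1), (53, 55, 1), (56, 58, 1), (59, 61, 1), (64, 66, 1), (67, 69, 1), (70, 72, 1), (73, 75, 1)],
  [(4, 43, 1), (8, 9, 1), (11, 12, 1), (15, 16, 1), (18, 19, 1), (22, 23, 1), (26, 27, 1), (29, 30, 1), (33, 34, 1), (37, 38, 1), (39, 41, 1), (40, 3, 1), (40, 5, 1), (40, 43, 2), (42, 44, 1), (45, 46, 1), (49, 50, 1), (53, 54, 1), (56, 57, 1), (60, 61, 1), (64, 65, 1), (67, 68, 1), (71, 72, 1), (74, 75, 1)],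
  [(5, 42, 1), (9, 10, 1), (12, 13, 1), (14, 15, 1), (17, 18, 1), (23, 24, 1), (25, 26, 1), (28, 29, 1), (32, 33, 1), (36, 37, 1), (39, 40, 1), (41, 4, 1), (41, 42, 2), (43, 44, 1), (46, 47, 1), (50, 51, 1), (54, 55, 1), (57, 58, 1), (59, 60, 1), (65, 66, 1), (68, 69, 1), (70, 71, 1), (73, 74, 1)],
  [(5, 41, 1), (10, 9, 1), (13, 12, 1), (15, 14, 1), (18, 17, 1), (24, 23, 1), (26, 25, 1), (29, 28, 1), (33, 32, 1), (37, 36, 1), (40, 39, 1), (42, 4, 1), (42, 41, 2), (44, 43, 1), (47, 46, 1), (51, 50, 1), (55, 54, 1), (58, 57, 1), (60, 59, 1), (66, 65, 1), (69, 68, 1), (71, 70, 1), (74, 73, 1)],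
  [(4, 40, 1), (9, 8, 1), (12, 11, 1), (16, 15, 1), (19, 18, 1), (23, 22, 1), (27, 26, 1), (30, 29, 1), (34, 33, 1), (38, 37, 1), (41, 39, 1), (43, 3, 1), (43, 5, 1), (43, 40, 2), (44, 42, 1), (46, 45, 1), (50, 49, 1), (54, 53, 1), (57, 56, 1), (61, 60, 1), (65, 64, 1), (68, 67, 1), (72, 71, 1), (75, 74, 1)],
  [(4, 39, 1), (5, 39, 1), (10, 8, 1), (13, 11, 1), (16, 14, 1), (19, 17, 1), (24, 22, 1), (27, 25, 1), (30, 28, 1), (34, 32, 1), (38, 36, 1), (42, 40, 1), (43, 41, 1), (44, 3, 1), (44, 4, 1), (44, 5, 1), (44, 39, 2), (47, 45, 1), (51, 49, 1), (55, 53, 1), (58, 56, 1), (61, 59, 1), (66, 64, 1), (69, 67, 1), (72, 70, 1), (75, 73, 1)],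
  [(3, 38, 1), (8, 7, 1), (14, 12, 1), (15, 13, 1), (20, 19, 1), (25, 23, 1), (26, 24, 1), (31, 30, 1), (35, 34, 1), (39, 36, 1), (40, 37, 1), (45, 1, 1), (45, 2, 1), (45, 4, 1), (45, 38, 2), (46, 43, 1), (47, 44, 1), (49, 48, 1), (53, 52, 1), (59, 57, 1), (60, 58, 1), (64, 63, 1), (70, 68, 1), (71, 69, 1), (76, 75, 1)],
  [(3, 37, 1), (4, 37, 1), (9, 7, 1), (14, 11, 1), (16, 13, 1), (20, 18, 1), (25, 22, 1), (27, 24, 1), (31, 29, 1), (35, 33, 1), (41, 36, 1), (43, 38, 1), (45, 40, 1), (46, 1, 1), (46, 2, 1), (46, 3, 1), (46, 4, 1), (46, 5, 1), (46, 37, 2), (47, 42, 1), (50, 48, 1), (54, 52, 1), (59, 56, 1), (61, 58, 1), (65, 63, 1), (70, 67, 1), (72, 69, 1), (76, 74, 1)],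
  [(3, 36, 1), (4, 36, 1), (5, 36, 1), (10, 7, 1), (15, 11, 1), (16, 12, 1), (20, 17, 1), (26, 22, 1), (27, 23, 1), (31, 28, 1), (35, 32, 1), (42, 37, 1), (44, 38, 1), (45, 39, 1), (46, 41, 1), (47, 1, 1), (47, 2, 1), (47, 3, 1), (47, 5, 1), (47, 36, 2), (51, 48, 1), (55, 52, 1), (60, 56, 1), (61, 57, 1), (66, 63, 1), (71, 67, 1), (72, 68, 1), (76, 73, 1)],
  [(2, 35, 1), (11, 8, 1), (12, 9, 1), (13, 10, 1), (21, 20, 1), (28, 25, 1), (29, 26, 1), (30, 27, 1), (36, 32, 1), (37, 33, 1), (38, 34, 1), (48, 0, 1), (48, 3, 1), (48, 35, 2), (49, 45, 1), (50, 46, 1), (51, 47, 1), (56, 53, 1), (57, 54, 1), (58, 55, 1), (63, 62, 1), (73, 70, 1), (74, 71, 1), (75, 72, 1)],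
  [(2, 34, 1), (3, 34, 1), (11, 7, 1), (14, 9, 1), (15, 10, 1), (21, 19, 1), (28, 23, 1), (29, 24, 1), (31, 27, 1), (39, 32, 1), (40, 33, 1), (45, 35, 1), (48, 38, 1), (49, 0, 1), (49, 1, 1), (49, 2, 1), (49, 3, 1), (49, 4, 1), (49, 34, 2), (50, 43, 1), (51, 44, 1), (56, 52, 1), (59, 54, 1), (60, 55, 1), (64, 62, 1), (73, 68, 1), (74, 69, 1), (76, 72, 1)],
  [(2, 33, 1), (3, 33, 1), (4, 33, 1), (12, 7, 1), (14, 8, 1), (16, 10, 1), (21, 18, 1), (28, 22, 1), (30, 24, 1), (31, 26, 1), (41, 32, 1), (43, 34, 1), (46, 35, 1), (48, 37, 1), (49, 40, 1), (50, 0, 1), (50, 1, 1), (50, 2, 1), (50, 4, 1), (50, 5, 1), (50, 33, 2), (51, 42, 1), (57, 52, 1), (59, 53, 1), (61, 55, 1), (65, 62, 1), (73, 67, 1), (75, 69, 1), (76, 71, 1)],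
  [(2, 32, 1), (3, 32, 1), (4, 32, 1), (5, 32, 1), (13, 7, 1), (15, 8, 1), (16, 9, 1), (21, 17, 1), (29, 22, 1), (30, 23, 1), (31, 25, 1), (42, 33, 1), (44, 34, 1), (47, 35, 1), (48, 36, 1), (49, 39, 1), (50, 41, 1), (51, 0, 1), (51, 1, 1), (51, 2, 1), (51, 5, 1), (51, 32, 2), (58, 52, 1), (60, 53, 1), (61, 54, 1), (66, 62, 1), (74, 67, 1), (75, 68, 1), (76, 70, 1)],
  [(1, 31, 1), (7, 6, 1), (17, 14, 1), (18, 15, 1), (19, 16, 1), (32, 25, 1), (33, 26, 1), (34, 27, 1), (36, 28, 1), (37, 29, 1), (38, 30, 1), (52, 3, 1), (52, 31, 2), (53, 45, 1), (54, 46, 1), (55, 47, 1), (56, 49, 1), (57, 50, 1), (58, 51, 1), (67, 64, 1), (68, 65, 1), (69, 66, 1), (77, 76, 1)],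
  [(1, 30, 1), (3, 30, 1), (8, 6, 1), (17, 12, 1), (18, 13, 1), (20, 16, 1), (32, 23, 1), (33, 24, 1), (35, 27, 1), (39, 28, 1), (40, 29, 1), (45, 31, 1), (52, 38, 1), (53, 1, 1), (53, 2, 1), (53, 3, 1), (53, 4, 1), (53, 30, 2), (54, 43, 1), (55, 44, 1), (56, 48, 1), (59, 50, 1), (60, 51, 1), (67, 63, 1), (70, 65, 1), (71, 66, 1), (77, 75, 1)],
  [(1, 29, 1), (3, 29, 1), (4, 29, 1), (9, 6, 1), (17, 11, 1), (19, 13, 1), (20, 15, 1), (32, 22, 1), (34, 24, 1), (35, 26, 1), (41, 28, 1), (43, 30, 1), (46, 31, 1), (52, 37, 1), (53, 40, 1), (54, 1, 1), (54, 2, 1), (54, 4, 1), (54, 5, 1), (54, 29, 2), (55, 42, 1), (57, 48, 1), (59, 49, 1), (61, 51, 1), (68, 63, 1), (70, 64, 1), (72, 66, 1), (77, 74, 1)],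
  [(1, 28, 1), (3, 28, 1), (4, 28, 1), (5, 28, 1), (10, 6, 1), (18, 11, 1), (19, 12, 1), (20, 14, 1), (33, 22, 1), (34, 23, 1), (35, 25, 1), (42, 29, 1), (44, 30, 1), (47, 31, 1), (52, 36, 1), (53, 39, 1), (54, 41, 1), (55, 1, 1), (55, 2, 1), (55, 5, 1), (55, 28, 2), (58, 48, 1), (60, 49, 1), (61, 50, 1), (69, 63, 1), (71, 64, 1), (72, 65, 1), (77, 73, 1)],
  [(1, 27, 1), (2, 27, 1), (3, 27, 1), (11, 6, 1), (17, 9, 1), (18, 10, 1), (21, 16, 1), (36, 23, 1), (37, 24, 1), (39, 25, 1), (40, 26, 1), (48, 30, 1), (49, 31, 1), (52, 34, 1), (53, 35, 1), (56, 0, 1), (56, 1, 1), (56, 2, 1), (56, 4, 1), (56, 27, 2), (57, 43, 1), (58, 44, 1), (59, 46, 1), (60, 47, 1), (67, 62, 1), (73, 65, 1), (74, 66, 1), (77, 72, 1)],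
  [(1, 26, 1), (2, 26, 1), (3, 26, 1), (4, 26, 1), (12, 6, 1), (17, 8, 1), (19, 10, 1), (21, 15, 1), (36, 22, 1), (38, 24, 1), (41, 25, 1), (43, 27, 1), (48, 29, 1), (50, 31, 1), (52, 33, 1), (54, 35, 1), (56, 40, 1), (57, 0, 1), (57, 1, 1), (57, 2, 1), (57, 3, 1), (57, 4, 1), (57, 5, 1), (57, 26, 2), (58, 42, 1), (59, 45, 1), (61, 47, 1), (68, 62, 1), (73, 64, 1), (75, 66, 1), (77, 71, 1)],
  [(1, 25, 1), (2, 25, 1), (3, 25, 1), (4, 25, 1), (5, 25, 1), (13, 6, 1), (18, 8, 1), (19, 9, 1), (21, 14, 1), (37, 22, 1), (38, 23, 1), (42, 26, 1), (44, 27, 1), (48, 28, 1), (51, 31, 1), (52, 32, 1), (55, 35, 1), (56, 39, 1), (57, 41, 1), (58, 0, 1), (58, 1, 1), (58, 2, 1), (58, 3, 1), (58, 5, 1), (58, 25, 2), (60, 45, 1), (61, 46, 1), (69, 62, 1), (74, 64, 1), (75, 65, 1), (77, 70, 1)],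
  [(1, 24, 1), (2, 24, 1), (4, 24, 1), (14, 6, 1), (17, 7, 1), (20, 10, 1), (21, 13, 1), (39, 22, 1), (41, 23, 1), (45, 26, 1), (46, 27, 1), (49, 29, 1), (50, 30, 1), (53, 33, 1), (54, 34, 1), (56, 37, 1), (57, 38, 1), (59, 0, 1), (59, 3, 1), (59, 5, 1), (59, 24, 2), (60, 42, 1), (61, 44, 1), (70, 62, 1), (73, 63, 1), (76, 66, 1), (77, 69, 1)],
  [(1, 23, 1), (2, 23, 1), (4, 23, 1), (5, 23, 1), (15, 6, 1), (18, 7, 1), (20, 9, 1), (21, 12, 1), (40, 22, 1), (42, 24, 1), (45, 25, 1), (47, 27, 1), (49, 28, 1), (51, 30, 1), (53, 32, 1), (55, 34, 1), (56, 36, 1), (58, 38, 1), (59, 41, 1), (60, 0, 1), (60, 3, 1), (60, 4, 1), (60, 5, 1), (60, 23, 2), (61, 43, 1), (71, 62, 1), (74, 63, 1), (76, 65, 1), (77, 68, 1)],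
  [(1, 22, 1), (2, 22, 1), (5, 22, 1), (16, 6, 1), (19, 7, 1), (20, 8, 1), (21, 11, 1), (43, 23, 1), (44, 24, 1), (46, 25, 1), (47, 26, 1), (50, 28, 1), (51, 29, 1), (54, 32, 1), (55, 33, 1), (57, 36, 1), (58, 37, 1), (59, 39, 1), (60, 40, 1), (61, 0, 1), (61, 4, 1), (61, 22, 2), (72, 62, 1), (75, 63, 1), (76, 64, 1), (77, 67, 1)],
  [(0, 21, 1), (22, 11, 1), (23, 12, 1), (24, 13, 1), (25, 14, 1), (26, 15, 1), (27, 16, 1), (32, 17, 1), (33, 18, 1), (34, 19, 1), (35, 20, 1), (62, 2, 1), (62, 21, 2), (63, 48, 1), (64, 49, 1), (65, 50, 1), (66, 51, 1), (67, 56, 1), (68, 57, 1), (69, 58, 1), (70, 59, 1), (71, 60, 1), (72, 61, 1)],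
  [(0, 20, 1), (2, 20, 1), (22, 8, 1), (23, 9, 1), (24, 10, 1), (28, 14, 1), (29, 15, 1), (30, 16, 1), (36, 17, 1), (37, 18, 1), (38, 19, 1), (48, 21, 1), (62, 35, 1), (63, 0, 1), (63, 2, 1), (63, 3, 1), (63, 20, 2), (64, 45, 1), (65, 46, 1), (66, 47, 1), (67, 53, 1), (68, 54, 1), (69, 55, 1), (73, 59, 1), (74, 60, 1), (75, 61, 1)],
  [(0, 19, 1), (2, 19, 1), (3, 19, 1), (22, 7, 1), (25, 9, 1), (26, 10, 1), (28, 12, 1), (29, 13, 1), (31, 16, 1), (39, 17, 1), (40, 18, 1), (45, 20, 1), (49, 21, 1), (62, 34, 1), (63, 38, 1), (64, 0, 1), (64, 1, 1), (64, 3, 1), (64, 4, 1), (64, 19, 2), (65, 43, 1), (66, 44, 1), (67, 52, 1), (70, 54, 1), (71, 55, 1), (73, 57, 1), (74, 58, 1), (76, 61, 1)],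
  [(0, 18, 1), (2, 18, 1), (3, 18, 1), (4, 18, 1), (23, 7, 1), (25, 8, 1), (27, 10, 1), (28, 11, 1), (30, 13, 1), (31, 15, 1), (41, 17, 1), (43, 19, 1), (46, 20, 1), (50, 21, 1), (62, 33, 1), (63, 37, 1), (64, 40, 1), (65, 0, 1), (65, 1, 1), (65, 4, 1), (65, 5, 1), (65, 18, 2), (66, 42, 1), (68, 52, 1), (70, 53, 1), (72, 55, 1), (73, 56, 1), (75, 58, 1), (76, 60, 1)],
  [(0, 17, 1), (2, 17, 1), (3, 17, 1), (4, 17, 1), (5, 17, 1), (24, 7, 1), (26, 8, 1), (27, 9, 1), (29, 11, 1), (30, 12, 1), (31, 14, 1), (42, 18, 1), (44, 19, 1), (47, 20, 1), (51, 21, 1), (62, 32, 1), (63, 36, 1), (64, 39, 1), (65, 41, 1), (66, 0, 1), (66, 1, 1), (66, 5, 1), (66, 17, 2), (69, 52, 1), (71, 53, 1), (72, 54, 1), (74, 56, 1), (75, 57, 1), (76, 59, 1)],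
  [(0, 16, 1), (1, 16, 1), (2, 16, 1), (3, 16, 1), (22, 6, 1), (32, 9, 1), (33, 10, 1), (36, 12, 1), (37, 13, 1), (39, 14, 1), (40, 15, 1), (52, 19, 1), (53, 20, 1), (56, 21, 1), (62, 27, 1), (63, 30, 1), (64, 31, 1), (67, 0, 1), (67, 1, 1), (67, 4, 1), (67, 16, 2), (68, 43, 1), (69, 44, 1), (70, 46, 1), (71, 47, 1), (73, 50, 1), (74, 51, 1), (77, 61, 1)],
  [(0, 15, 1), (1, 15, 1), (2, 15, 1), (3, 15, 1), (4, 15, 1), (23, 6, 1), (32, 8, 1), (34, 10, 1), (36, 11, 1), (38, 13, 1), (41, 14, 1), (43, 16, 1), (52, 18, 1), (54, 20, 1), (57, 21, 1), (62, 26, 1), (63, 29, 1), (65, 31, 1), (67, 40, 1), (68, 0, 1), (68, 1, 1), (68, 3, 1), (68, 4, 1), (68, 5, 1), (68, 15, 2), (69, 42, 1), (70, 45, 1), (72, 47, 1), (73, 49, 1), (75, 51, 1), (77, 60, 1)],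
  [(0, 14, 1), (1, 14, 1), (2, 14, 1), (3, 14, 1), (4, 14, 1), (5, 14, 1), (24, 6, 1), (33, 8, 1), (34, 9, 1), (37, 11, 1), (38, 12, 1), (42, 15, 1), (44, 16, 1), (52, 17, 1), (55, 20, 1), (58, 21, 1), (62, 25, 1), (63, 28, 1), (66, 31, 1), (67, 39, 1), (68, 41, 1), (69, 0, 1), (69, 1, 1), (69, 3, 1), (69, 5, 1), (69, 14, 2), (71, 45, 1), (72, 46, 1), (74, 49, 1), (75, 50, 1), (77, 59, 1)],
  [(0, 13, 1), (1, 13, 1), (2, 13, 1), (4, 13, 1), (25, 6, 1), (32, 7, 1), (35, 10, 1), (39, 11, 1), (41, 12, 1), (45, 15, 1), (46, 16, 1), (53, 18, 1), (54, 19, 1), (59, 21, 1), (62, 24, 1), (64, 29, 1), (65, 30, 1), (67, 37, 1), (68, 38, 1), (70, 0, 1), (70, 2, 1), (70, 3, 1), (70, 5, 1), (70, 13, 2), (71, 42, 1), (72, 44, 1), (73, 48, 1), (76, 51, 1), (77, 58, 1)],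
  [(0, 12, 1), (1, 12, 1), (2, 12, 1), (4, 12, 1), (5, 12, 1), (26, 6, 1), (33, 7, 1), (35, 9, 1), (40, 11, 1), (42, 13, 1), (45, 14, 1), (47, 16, 1), (53, 17, 1), (55, 19, 1), (60, 21, 1), (62, 23, 1), (64, 28, 1), (66, 30, 1), (67, 36, 1), (69, 38, 1), (70, 41, 1), (71, 0, 1), (71, 2, 1), (71, 3, 1), (71, 4, 1), (71, 5, 1), (71, 12, 2), (72, 43, 1), (74, 48, 1), (76, 50, 1), (77, 57, 1)],
  [(0, 11, 1), (1, 11, 1), (2, 11, 1), (5, 11, 1), (27, 6, 1), (34, 7, 1), (35, 8, 1), (43, 12, 1), (44, 13, 1), (46, 14, 1), (47, 15, 1), (54, 17, 1), (55, 18, 1), (61, 21, 1), (62, 22, 1), (65, 28, 1), (66, 29, 1), (68, 36, 1), (69, 37, 1), (70, 39, 1), (71, 40, 1), (72, 0, 1), (72, 2, 1), (72, 4, 1), (72, 11, 2), (75, 48, 1), (76, 49, 1), (77, 56, 1)],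
  [(0, 10, 1), (1, 10, 1), (4, 10, 1), (28, 6, 1), (36, 7, 1), (39, 8, 1), (41, 9, 1), (48, 13, 1), (49, 15, 1), (50, 16, 1), (56, 18, 1), (57, 19, 1), (59, 20, 1), (63, 24, 1), (64, 26, 1), (65, 27, 1), (67, 33, 1), (68, 34, 1), (70, 35, 1), (73, 2, 1), (73, 5, 1), (73, 10, 2), (74, 42, 1), (75, 44, 1), (76, 47, 1), (77, 55, 1)],
  [(0, 9, 1), (1, 9, 1), (4, 9, 1), (5, 9, 1), (29, 6, 1), (37, 7, 1), (40, 8, 1), (42, 10, 1), (48, 12, 1), (49, 14, 1), (51, 16, 1), (56, 17, 1), (58, 19, 1), (60, 20, 1), (63, 23, 1), (64, 25, 1), (66, 27, 1), (67, 32, 1), (69, 34, 1), (71, 35, 1), (73, 41, 1), (74, 2, 1), (74, 4, 1), (74, 5, 1), (74, 9, 2), (75, 43, 1), (76, 46, 1), (77, 54, 1)],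
  [(0, 8, 1), (1, 8, 1), (5, 8, 1), (30, 6, 1), (38, 7, 1), (43, 9, 1), (44, 10, 1), (48, 11, 1), (50, 14, 1), (51, 15, 1), (57, 17, 1), (58, 18, 1), (61, 20, 1), (63, 22, 1), (65, 25, 1), (66, 26, 1), (68, 32, 1), (69, 33, 1), (72, 35, 1), (73, 39, 1), (74, 40, 1), (75, 2, 1), (75, 3, 1), (75, 4, 1), (75, 8, 2), (76, 45, 1), (77, 53, 1)],
  [(0, 7, 1), (1, 7, 1), (3, 7, 1), (5, 7, 1), (31, 6, 1), (45, 8, 1), (46, 9, 1), (47, 10, 1), (49, 11, 1), (50, 12, 1), (51, 13, 1), (59, 17, 1), (60, 18, 1), (61, 19, 1), (64, 22, 1), (65, 23, 1), (66, 24, 1), (70, 32, 1), (71, 33, 1), (72, 34, 1), (73, 36, 1), (74, 37, 1), (75, 38, 1), (76, 1, 1), (76, 3, 1), (76, 7, 2), (77, 52, 1)],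
  [(0, 6, 1), (3, 6, 1), (5, 6, 1), (52, 7, 1), (53, 8, 1), (54, 9, 1), (55, 10, 1), (56, 11, 1), (57, 12, 1), (58, 13, 1), (59, 14, 1), (60, 15, 1), (61, 16, 1), (67, 22, 1), (68, 23, 1), (69, 24, 1), (70, 25, 1), (71, 26, 1), (72, 27, 1), (73, 28, 1), (74, 29, 1), (75, 30, 1), (76, 31, 1), (77, 1, 1), (77, 6, 2)]]

end Cfsg.Agent.Fus.E6Fi22
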