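import Cfsg.Agent.Lib.Lie.Chev.TwistCommon
import Cfsg.Agent.Lib.Lie.Chev.TwistE6
import Cfsg.Agent.Lib.Fus.E6Fi22.RootData

/-!
Vectors of length `78` over the field with four elements coded by two planes of bits, and words in the root
elements of `E₆` acting on them.
-/

set_option autoImplicit false
set_option maxRecDepth 20000

namespace Cfsg.Agent.Fus.E6Fi22

open Cfsg Cfsg.Lie Matrix Cfsg.Agent.Lie.Chev

/-- Evaluate a number before passing it on. -/
def force {α : Type} (v : ℕ) (k : ℕ → α) : α :=
  match v with
  | 0 => k 0
  | n + 1 => k (n + 1)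

theorem force_eq {α : Type} (v : ℕ) (k : ℕ → α) : force v k = k v := by cases v <;> rfl

/-- Product of two scalars given by bits. -/
def mulB (x y : Bool × Bool) : Bool × Bool :=
  ((x.1 && y.1) ^^ (x.2 && y.2), ((x.1 && y.2) ^^ (x.2 && y.1)) ^^ (x.2 && y.2))

/-- A power of a scalar given by bits. -/
def powB (x : Bool × Bool) : ℕ → Bool × Bool
  | 0 => (true, false)
  | e + 1 => mulB x (powB x e)

/-- The entry of a coded vector. -/
def getB (v k : ℕ) : Bool × Bool := (v.testBit k, v.testBit (128 + k))

/-- Add a scalar at a place. -/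
def addAt (k : ℕ) (x : Bool × Bool) (v : ℕ) : ℕ :=
  Nat.xor (bif x.2 then 2 ^ (128 + k) else 0) (Nat.xor (bif x.1 then 2 ^ k else 0) v)

/-- The code of a unit vector. -/
def unitCode (k : ℕ) : ℕ := 2 ^ k

/-- Apply a list of entries added to the identity. -/
def applyEnts (t : Bool × Bool) (v : ℕ) : List (ℕ × ℕ × ℕ) → ℕ
  | [] => v
  | e :: l => force (applyEnts t v l) fun acc =>
      addAt e.1 (mulB (powB t e.2.2) (getB v e.2.1)) acc

/-- The scalar of a letter. -/
def letB (n : ℕ) : Bool × Bool := (n.testBit 0, n.testBit 1)

/-- A letter applied to a coded vector. -/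
def bapply (n v : ℕ) : ℕ := force v fun v => applyEnts (letB n) v (rootEnts.getD (n / 4) [])

/-- A word applied to a coded vector. -/
def wapply : List ℕ → ℕ → ℕ
  | [], v => v
  | n :: w, v => force (wapply w v) fun u => bapply n u

/-- The code of a list of terms. -/
def termsCode (t : Bool × Bool) : List Term → ℕ
  | [] => 0
  | p :: L => force (termsCode t L) fun acc =>
      bif Nat.beq (p.coef.natAbs % 2) 1 then addAt p.row (powB t p.ea) acc else acc

/-- The entries of a root element agree with the tables. -/
def checkRoot (r : ℕ) : Bool :=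
  (List.range 78).all fun j =>
    [(false, false), (true, false), (false, true), (true, true)].all fun t =>
      Nat.beq (termsCode t (certFullE6.T.xCol r 1 0 0 1 j))
        (applyEnts t (unitCode j) (rootEnts.getD r []))

/-- Every entry is inside. -/
def checkRange : Bool :=
  rootEnts.all fun l => l.all fun e => Nat.blt e.1 78 && Nat.blt e.2.1 78

/-- The rows of the columns stay inside. -/
def checkRows (r : ℕ) : Bool :=
  (List.range 78).all fun j => (certFullE6.T.xCol r 1 0 0 1 j).all fun p => Nat.blt p.row 78

/-- The letters are inside. -/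
def inRange (w : List ℕ) : Bool := w.all fun n => Nat.blt (n / 4) 72

end Cfsg.Agent.Fus.E6Fi22
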