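import Cfsg.Agent.Lib.Fus.E6Fi22.Cols

/-! The table fits, and its first matrices. -/

set_option autoImplicit false
set_option maxRecDepth 100000

namespace Cfsg.Agent.Fus.E6Fi22

theorem checkTable : (Nat.beq table.length 39 && table.all okCols) = true := by decide +kernel

theorem checkBase_all : (List.range 16).all checkBase = true := by decide +kernel

end Cfsg.Agent.Fus.E6Fi22
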