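import Cfsg.Agent.Lib.Fus.E6Fi22.Cols

/-! Fixed lines and spanning. -/

set_option autoImplicit false
set_option maxRecDepth 100000

namespace Cfsg.Agent.Fus.E6Fi22

theorem checkA : (checkFix multsA fixGensA pivotA fixVecA &&
    checkSpan spanA spanInvA [0, 1, 2, 3, 4, 5, 6, 7, 8] fixVecA) = true := by
  decide +kernel

theorem checkB : (checkFix multsB fixGensB pivotB fixVecB &&
    checkSpan spanB spanInvB [1, 2, 3, 4, 5, 6, 7, 8] fixVecB) = true := by
  decide +kernel

end Cfsg.Agent.Fus.E6Fi22
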