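import Cfsg.Agent.Lib.Fus.E6Fi22.Cols

/-! The relations of the presentation. -/

set_option autoImplicit false
set_option maxRecDepth 100000

namespace Cfsg.Agent.Fus.E6Fi22

/-- The place of an involution. -/
def gidx (i : ℕ) : ℕ := genIdx.getD i 0

/-- The edges of the diagram. -/
def edgeCodes : List (ℕ × ℕ) := [(0, 1), (1, 2), (2, 3), (3, 4), (3, 7), (4, 5), (5, 6), (7, 8)]

/-- The relations between an involution and the later ones. -/
def checkRow (i : ℕ) : Bool :=
  checkEq [gidx i, gidx i] [] &&
    (List.range 9).all fun j => Nat.ble j i ||
      bif edgeCodes.any (fun e => Nat.beq e.1 i && Nat.beq e.2 j)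
      then checkEq [gidx i, gidx j, gidx i] [gidx j, gidx i, gidx j]
      else checkEq [gidx i, gidx j] [gidx j, gidx i]

theorem checkRow0 : checkRow 0 = true := by decide +kernel

theorem checkRow1 : checkRow 1 = true := by decide +kernel

theorem checkRow2 : checkRow 2 = true := by decide +kernel

theorem checkRow3 : checkRow 3 = true := by decide +kernel

theorem checkRow4 : checkRow 4 = true := by decide +kernel

theorem checkRow5 : checkRow 5 = true := by decide +kernel

theorem checkRow6 : checkRow 6 = true := by decide +kernel

theorem checkRow7 : checkRow 7 = true := by decide +kernel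

theorem checkRow8 : checkRow 8 = true := by decide +kernel

theorem checkPowers : (checkEq [30, 28] [] && checkEq [34, 31] [] && checkEq [38, 35] []) = true := by
  decide +kernel

end Cfsg.Agent.Fus.E6Fi22
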