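import Cfsg.Agent.Lib.Fus.E6Fi22.Bits

/-! The entries of the root elements agree with the tables. -/

set_option autoImplicit false
set_option maxRecDepth 20000

namespace Cfsg.Agent.Fus.E6Fi22

open Cfsg Cfsg.Lie Cfsg.Agent.Lie.Chev

theorem checkRoot_ok :
    ((List.range 72).all fun r => checkRoot r && checkRows r) && checkRange = true := by
  decide +kernel

end Cfsg.Agent.Fus.E6Fi22
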