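import Cfsg.Agent.Lib.Fus.E6Fi22.Cols

/-! The later matrices are the products of their words. -/

set_option autoImplicit false
set_option maxRecDepth 100000

namespace Cfsg.Agent.Fus.E6Fi22

theorem checkStep0 : (checkStep (steps.getD 0 (0, [])) 0 39 &&
    checkStep (steps.getD 0 (0, [])) 39 39) = true := by
  decide +kernel

theorem checkStep1 : (checkStep (steps.getD 1 (0, [])) 0 39 &&
    checkStep (steps.getD 1 (0, [])) 39 39) = true := by
  decide +kernel

theorem checkStep2 : (checkStep (steps.getD 2 (0, [])) 0 39 &&
    checkStep (steps.getD 2 (0, [])) 39 39) = true := by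
  decide +kernel

theorem checkStep3 : (checkStep (steps.getD 3 (0, [])) 0 39 &&
    checkStep (steps.getD 3 (0, [])) 39 39) = true := by
  decide +kernel

theorem checkStep4 : (checkStep (steps.getD 4 (0, [])) 0 39 &&
    checkStep (steps.getD 4 (0, [])) 39 39) = true := by
  decide +kernel

theorem checkStep5 : (checkStep (steps.getD 5 (0, [])) 0 39 &&
    checkStep (steps.getD 5 (0, [])) 39 39) = true := by
  decide +kernel

theorem checkStep6 : (checkStep (steps.getD 6 (0, [])) 0 39 &&
    checkStep (steps.getD 6 (0, [])) 39 39) = true := by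
  decide +kernel

theorem checkStep7 : (checkStep (steps.getD 7 (0, [])) 0 39 &&
    checkStep (steps.getD 7 (0, [])) 39 39) = true := by
  decide +kernel

theorem checkStep8 : (checkStep (steps.getD 8 (0, [])) 0 39 &&
    checkStep (steps.getD 8 (0, [])) 39 39) = true := by
  decide +kernel

theorem checkStep9 : (checkStep (steps.getD 9 (0, [])) 0 39 &&
    checkStep (steps.getD 9 (0, [])) 39 39) = true := by
  decide +kernel

theorem checkStep10 : (checkStep (steps.getD 10 (0, [])) 0 39 &&
    checkStep (steps.getD 10 (0, [])) 39 39) = true := by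
  decide +kernel

theorem checkStep11 : (checkStep (steps.getD 11 (0, [])) 0 39 &&
    checkStep (steps.getD 11 (0, [])) 39 39) = true := by
  decide +kernel

theorem checkStep12 : (checkStep (steps.getD 12 (0, [])) 0 39 &&
    checkStep (steps.getD 12 (0, [])) 39 39) = true := by
  decide +kernel

theorem checkStep13 : (checkStep (steps.getD 13 (0, [])) 0 39 &&
    checkStep (steps.getD 13 (0, [])) 39 39) = true := by
  decide +kernel

theorem checkStep14 : (checkStep (steps.getD 14 (0, [])) 0 39 &&
    checkStep (steps.getD 14 (0, [])) 39 39) = true := by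
  decide +kernel

theorem checkStep15 : (checkStep (steps.getD 15 (0, [])) 0 39 &&
    checkStep (steps.getD 15 (0, [])) 39 39) = true := by
  decide +kernel

theorem checkStep16 : (checkStep (steps.getD 16 (0, [])) 0 39 &&
    checkStep (steps.getD 16 (0, [])) 39 39) = true := by
  decide +kernel

theorem checkStep17 : (checkStep (steps.getD 17 (0, [])) 0 39 &&
    checkStep (steps.getD 17 (0, [])) 39 39) = true := by
  decide +kernel

theorem checkStep18 : (checkStep (steps.getD 18 (0, [])) 0 39 &&
    checkStep (steps.getD 18 (0, [])) 39 39) = true := by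
  decide +kernel

theorem checkStep19 : (checkStep (steps.getD 19 (0, [])) 0 39 &&
    checkStep (steps.getD 19 (0, [])) 39 39) = true := by
  decide +kernel

theorem checkStep20 : (checkStep (steps.getD 20 (0, [])) 0 39 &&
    checkStep (steps.getD 20 (0, [])) 39 39) = true := by
  decide +kernel

theorem checkStep21 : (checkStep (steps.getD 21 (0, [])) 0 39 &&
    checkStep (steps.getD 21 (0, [])) 39 39) = true := by
  decide +kernel

theorem checkStep22 : (checkStep (steps.getD 22 (0, [])) 0 39 &&
    checkStep (steps.getD 22 (0, [])) 39 39) = true := by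
  decide +kernel

end Cfsg.Agent.Fus.E6Fi22
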