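import Cfsg.Agent.Lib.Fus.E6Fi22.ChkRoot

/-!
The meaning of the coded vectors and of the words in the root elements of `E₆`.
-/

set_option autoImplicit false
set_option maxRecDepth 20000

namespace Cfsg.Agent.Fus.E6Fi22

open Cfsg Cfsg.Lie Matrix Cfsg.Agent.Lie.Chev

theorem enum_lt_dim (a : chevE6.Idx) : enum chevE6 a < 78 := by
  have h := enum_lt chevE6 a
  rwa [show chevE6.rank = 6 from rfl, show chevE6.nroots = 72 from rfl] at h

/-- The coordinate of a number. -/
def ix (k : ℕ) : chevE6.Idx :=
  if h : k < chevE6.rank then Sum.inl ⟨k, h⟩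
  else Sum.inr ⟨(k - chevE6.rank) % chevE6.nroots,
    Nat.mod_lt _ (by rw [show chevE6.nroots = 72 from rfl]; omega)⟩

theorem enum_ix {k : ℕ} (hk : k < 78) : enum chevE6 (ix k) = k := by
  by_cases h : k < chevE6.rank
  · rw [ix, dif_pos h]; rfl
  · rw [ix, dif_neg h]
    show chevE6.rank + (k - chevE6.rank) % chevE6.nroots = k
    rw [show chevE6.rank = 6 from rfl] at h ⊢
    rw [show chevE6.nroots = 72 from rfl, Nat.mod_eq_of_lt (by omega)]
    omega

theorem ix_enum (a : chevE6.Idx) : ix (enum chevE6 a) = a :=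
  enum_injective chevE6 (enum_ix (enum_lt_dim a))

/-- An element `ω` of the field with four elements outside the prime field. -/
structure Scalar (K : Type*) [Field K] where
  w : K
  sq : w * w = w + 1

variable {K : Type*} [Field K] [CharP K 2] (S : Scalar K)

/-- The value of a scalar given by bits. -/
def val (x : Bool × Bool) : K := (bif x.1 then 1 else 0) + (bif x.2 then S.w else 0)

theorem val_one : val S (true, false) = 1 := by simp [val]

theorem val_zero : val S (false, false) = 0 := by simp [val]

theorem val_xor (x y : Bool × Bool) : val S (x.1 ^^ y.1, x.2 ^^ y.2) = val S x + val S y := by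
  have h2 : (2 : K) = 0 := CharTwo.two_eq_zero
  rcases x with ⟨a, b⟩
  rcases y with ⟨c, d⟩
  cases a <;> cases b <;> cases c <;> cases d <;> simp [val] <;> (try ring_nf) <;> simp [h2]

theorem val_mul (x y : Bool × Bool) : val S (mulB x y) = val S x * val S y := by
  have h2 : (2 : K) = 0 := CharTwo.two_eq_zero
  have hs := S.sq
  rcases x with ⟨a, b⟩
  rcases y with ⟨c, d⟩
  cases a <;> cases b <;> cases c <;> cases d <;> simp [val, mulB, mul_add, add_mul, hs] <;>
    (try ring_nf) <;> simp [h2, show (3 : K) = 1 by linear_combination h2]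

theorem val_pow (x : Bool × Bool) : ∀ e, val S (powB x e) = val S x ^ e
  | 0 => by rw [powB, val_one, pow_zero]
  | e + 1 => by rw [powB, val_mul, val_pow x e, pow_succ']

/-- The entry of a coded vector. -/
def at' (v k : ℕ) : K := val S (getB v k)

/-- A coded vector. -/
def vec (v : ℕ) : chevE6.Idx → K := fun a => at' S v (enum chevE6 a)

theorem getB_xor (v w k : ℕ) : getB (Nat.xor v w) k =
    ((getB v k).1 ^^ (getB w k).1, (getB v k).2 ^^ (getB w k).2) := by
  simp [getB, show Nat.xor v w = v ^^^ w from rfl, Nat.testBit_xor]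

theorem at_xor (v w k : ℕ) : at' S (Nat.xor v w) k = at' S v k + at' S w k := by
  rw [at', getB_xor, val_xor]; rfl

theorem vec_xor (v w : ℕ) : vec S (Nat.xor v w) = vec S v + vec S w :=
  funext fun _ => at_xor S v w _

theorem vec_zero : vec S 0 = 0 := by funext a; simp [vec, at', getB, val]

theorem at_addAt {k l : ℕ} (hk : k < 128) (hl : l < 128) (x : Bool × Bool) (v : ℕ) :
    at' S (addAt k x v) l = (if l = k then val S x else 0) + at' S v l := by
  rw [addAt, at_xor, at_xor, ← add_assoc]
  congr 1
  rcases x with ⟨a, b⟩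
  by_cases h : l = k
  · subst h
    rw [if_pos rfl]
    cases a <;> cases b <;>
      simp [at', getB, val, Nat.testBit_two_pow, show ¬(128 + l = l) by omega,
        show ¬(l = 128 + l) by omega, add_comm]
  · rw [if_neg h]
    cases a <;> cases b <;>
      simp [at', getB, val, Nat.testBit_two_pow, Ne.symm h, show ¬(128 + k = l) by omega,
        show ¬(k = 128 + l) by omega]

theorem at_unit {k l : ℕ} (hk : k < 128) (hl : l < 128) :
    at' S (unitCode k) l = if l = k then 1 else 0 := by
  rw [unitCode, at', getB, Nat.testBit_two_pow, Nat.testBit_two_pow]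
  by_cases h : l = k
  · subst h
    simp [val, show ¬(l = 128 + l) by omega]
  · simp [val, h, Ne.symm h, show ¬(k = 128 + l) by omega]

theorem vec_unit {k : ℕ} (hk : k < 78) : vec S (unitCode k) = Pi.single (ix k) 1 := by
  funext a
  rw [vec, at_unit S (by omega) ((enum_lt_dim a).trans (by omega)), Pi.single_apply]
  by_cases h : a = ix k
  · rw [if_pos h, if_pos (by rw [h, enum_ix hk])]
  · rw [if_neg h, if_neg fun e => h (by rw [← e, ix_enum])]

/-- The matrix of a list of entries. -/
def entsMat (t : Bool × Bool) (l : List (ℕ × ℕ × ℕ)) : Matrix chevE6.Idx chevE6.Idx K :=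
  (l.map fun e => Matrix.single (ix e.1) (ix e.2.1) (val S t ^ e.2.2)).sum

theorem vec_applyEnts (t : Bool × Bool) (v : ℕ) : ∀ l : List (ℕ × ℕ × ℕ),
    (∀ e ∈ l, e.1 < 78 ∧ e.2.1 < 78) →
    vec S (applyEnts t v l) = (1 + entsMat S t l) *ᵥ vec S v
  | [], _ => by simp [applyEnts, entsMat]
  | e :: l, h => by
    obtain ⟨h1, h2⟩ := h e (by simp)
    rw [applyEnts, force_eq, entsMat, List.map_cons, List.sum_cons, ← add_assoc, add_comm (1 : Matrix _ _ K),
      add_assoc, Matrix.add_mulVec, ← entsMat, ← vec_applyEnts t v l fun e' he' => h e' (by simp [he']),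
      Matrix.single_mulVec]
    funext a
    rw [vec, at_addAt S (by omega) ((enum_lt_dim a).trans (by omega)), Pi.add_apply, ← vec,
      val_mul, val_pow, Function.update_apply, Pi.zero_apply]
    congr 1
    rw [vec, enum_ix h2]
    by_cases hq : a = ix e.1
    · rw [if_pos hq, if_pos (by rw [hq, enum_ix h1])]; rfl
    · rw [if_neg hq, if_neg fun e' => hq (by rw [← e', ix_enum])]

theorem ev_code (t : Bool × Bool) : ∀ L : List Term, (∀ p ∈ L, p.row < 78) → ∀ a : chevE6.Idx,
    ev (enum chevE6) (val S t) 1 1 L a = vec S (termsCode t L) a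
  | [], _, a => by rw [ev_nil, termsCode, vec_zero]
  | p :: L, h, a => by
    rw [ev_cons, Pi.add_apply, ev_code t L (fun q hq => h q (by simp [hq])) a, termsCode, force_eq]
    have hv : p.val (val S t) 1 1 = if p.coef.natAbs % 2 = 1 then val S t ^ p.ea else 0 := by
      simp only [Term.val, one_pow, mul_one]
      rcases Int.emod_two_eq_zero_or_one p.coef with hc | hc
      · rw [if_neg (by omega), (CharP.intCast_eq_zero_iff K 2 p.coef).2 (by omega), zero_mul]
      · have : (p.coef : K) = 1 := by
          rw [← sub_eq_zero, ← Int.cast_one, ← Int.cast_sub, CharP.intCast_eq_zero_iff K 2]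
          omega
        rw [if_pos (by omega), this, one_mul]
    have hrow : p.row < 128 := (h p (by simp)).trans (by omega)
    have hl : enum chevE6 a < 128 := (enum_lt_dim a).trans (by omega)
    by_cases hodd : p.coef.natAbs % 2 = 1
    · rw [show Nat.beq (p.coef.natAbs % 2) 1 = true by rw [Nat.beq_eq]; exact hodd, cond_true]
      show _ = at' S (addAt p.row (powB t p.ea) (termsCode t L)) (enum chevE6 a)
      rw [at_addAt S hrow hl, hv, if_pos hodd, val_pow]
      rfl
    · rw [show Nat.beq (p.coef.natAbs % 2) 1 = false by rw [← Bool.not_eq_true, Nat.beq_eq]; exact hodd,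
        cond_false, hv, if_neg hodd, ite_self, zero_add]

theorem ents_lt (r : ℕ) : ∀ e ∈ rootEnts.getD r [], e.1 < 78 ∧ e.2.1 < 78 := by
  intro e he
  have h := checkRoot_ok
  simp only [checkRange, Bool.and_eq_true, List.all_eq_true, Nat.blt_eq, decide_eq_true_eq] at h
  rw [List.getD_eq_getElem?_getD] at he
  cases hl : rootEnts[r]? with
  | none => rw [hl] at he; simp at he
  | some l =>
    rw [hl] at he
    exact h.2 l (List.mem_of_getElem? hl) e he

theorem xg_eq {r : ℕ} (hr : r < 72) (t : Bool × Bool) :
    (certFullE6.xg r (val S t) : Matrix chevE6.Idx chevE6.Idx K) =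
      1 + entsMat S t (rootEnts.getD r []) := by
  have h := checkRoot_ok
  simp only [checkRoot, checkRows, Bool.and_eq_true, List.all_eq_true, List.mem_range, Nat.blt_eq,
    Nat.beq_eq] at h
  have ht : t ∈ [(false, false), (true, false), (false, true), (true, true)] := by
    rcases t with ⟨a, b⟩; cases a <;> cases b <;> simp
  refine Matrix.ext fun a b => ?_
  have hb := enum_lt_dim b
  have e1 := congrFun (vec_applyEnts S t (unitCode (enum chevE6 b)) _ (ents_lt r)) a
  rw [← (h.1 r hr).1 _ hb t ht, ← ev_code S t _ ((h.1 r hr).2 _ hb) a, vec_unit S hb, ix_enum,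
    Matrix.mulVec_single_one, Matrix.col_apply] at e1
  rw [← e1, certFullE6.xg_val]
  have e := certFullE6.x_eq_evMat (F := K) (val S t) 1 1 r 1 0 0 1 hr
  simp only [Int.cast_one, one_mul, pow_one, pow_zero, mul_one] at e
  rw [← e]
  rfl

/-- The root element of a letter. -/
noncomputable def letterEl (n : ℕ) : GL chevE6.Idx K := certFullE6.xg (n / 4) (val S (letB n))

/-- The element of a word. -/
noncomputable def wd (w : List ℕ) : GL chevE6.Idx K := (w.map (letterEl S)).prod

theorem wd_append (v w : List ℕ) : wd S (v ++ w) = wd S v * wd S w := by simp [wd]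

theorem vec_bapply {n : ℕ} (hn : n / 4 < 72) (v : ℕ) :
    vec S (bapply n v) = (letterEl S n : Matrix chevE6.Idx chevE6.Idx K) *ᵥ vec S v := by
  rw [bapply, force_eq, vec_applyEnts S _ _ _ (ents_lt _), letterEl, xg_eq S hn]

theorem vec_wapply : ∀ {w : List ℕ}, inRange w = true → ∀ v : ℕ,
    vec S (wapply w v) = (wd S w : Matrix chevE6.Idx chevE6.Idx K) *ᵥ vec S v
  | [], _, v => by simp [wapply, wd]
  | n :: w, h, v => by
    simp only [inRange, List.all_cons, Bool.and_eq_true, Nat.blt_eq] at h
    rw [wapply, force_eq, vec_bapply S h.1, vec_wapply (w := w) h.2 v, Matrix.mulVec_mulVec,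
      ← Units.val_mul]
    simp [wd]

end Cfsg.Agent.Fus.E6Fi22
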