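import Cfsg.Agent.Lib.Fus.E6Fi22.Bits
import Cfsg.Agent.Lib.Fus.E6Fi22.GenData
import Cfsg.Agent.Lib.Fus.E6Fi22.CertA
import Cfsg.Agent.Lib.Fus.E6Fi22.CertB

/-!
Matrices given by columns, and the checks on the nine involutions.
-/

set_option autoImplicit false
set_option maxRecDepth 20000

namespace Cfsg.Agent.Fus.E6Fi22

/-- A mask of `128` bits. -/
def mask : ℕ := 340282366920938463463374607431768211455

/-- One more than `2` raised to `128`. -/
def twin : ℕ := 340282366920938463463374607431768211457

/-- A coded vector times `ω`. -/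
def wMul (v : ℕ) : ℕ :=
  force (Nat.xor (Nat.land v mask) (Nat.land (Nat.shiftRight v 128) mask)) fun x =>
    Nat.xor (Nat.mul x twin) (Nat.land v mask)

/-- The sum of the columns chosen by the bits of `u`. -/
def lin : List ℕ → ℕ → ℕ
  | [], _ => 0
  | c :: M, u => Nat.xor (Nat.mul c (Nat.land u 1)) (force (Nat.shiftRight u 1) fun u' => lin M u')

/-- A matrix given by columns applied to a coded vector. -/
def mapply (M : List ℕ) (v : ℕ) : ℕ :=
  force v fun v => force (lin M (Nat.land v mask)) fun s =>
    Nat.xor s (wMul (lin M (Nat.shiftRight v 128)))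

/-- The columns fit. -/
def okCols (M : List ℕ) : Bool := Nat.beq M.length 78

/-- Matrices applied one after another to a coded vector. -/
def gsteps : List ℕ → ℕ → ℕ
  | [], v => v
  | k :: w, v => force (mapply (table.getD k []) v) fun u => gsteps w u

/-- A word in the matrices applied to a coded vector. -/
def gapply (w : List ℕ) (v : ℕ) : ℕ := gsteps w.reverse v

/-- The columns of a generator are those of its letters. -/
def checkBase (i : ℕ) : Bool :=
  inRange (tgens.getD i []) && (List.range 78).all fun j =>
    Nat.beq (wapply (tgens.getD i []) (unitCode j)) ((table.getD i []).getD j 0)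

/-- Some columns of a later matrix are those of its word. -/
def checkStep (p : ℕ × List ℕ) (lo n : ℕ) : Bool :=
  p.2.all (fun k => Nat.blt k p.1) &&
    (List.range' lo n).all fun j => Nat.beq (gapply p.2 (unitCode j)) ((table.getD p.1 []).getD j 0)

/-- Two words give the same matrix. -/
def checkEq (v w : List ℕ) : Bool :=
  v.all (fun k => Nat.blt k 39) && w.all (fun k => Nat.blt k 39) &&
    (List.range 78).all fun j => Nat.beq (gapply v (unitCode j)) (gapply w (unitCode j))

/-- The places of a list from `n` on. -/
def zipIdxSum (R : List (List ℕ)) (S : List ℕ) (j : ℕ) : ℕ :=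
  match R, S with
  | M :: R, k :: S => force (zipIdxSum R S j) fun acc =>
      Nat.xor (mapply M (Nat.xor (unitCode j) ((genCols.getD k []).getD j 0))) acc
  | _, _ => 0

/-- The common fixed space of some involutions is a line. -/
def checkFix (R : List (List ℕ)) (S : List ℕ) (f v : ℕ) : Bool :=
  Nat.beq R.length S.length && Nat.blt f 78 && S.all (fun k => Nat.blt k 9) &&
    R.all okCols &&
    S.all (fun k => Nat.beq (mapply (genCols.getD k []) v) v) &&
    (List.range 78).all fun j =>
      Nat.beq (zipIdxSum R S j) (Nat.xor (unitCode j) (bif Nat.beq j f then v else 0))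

/-- The vectors are the images of the first one and span. -/
def checkSpan (L : List (ℕ × ℕ × ℕ)) (T : List ℕ) (S : List ℕ) (v : ℕ) : Bool :=
  okCols (L.map fun e => e.1) && Nat.beq L.length 78 && Nat.beq T.length 78 && Nat.beq (L.getD 0 (0, 0, 0)).1 v &&
    (List.range 77).all (fun i =>
      let e := L.getD (i + 1) (0, 0, 0)
      Nat.blt e.2.1 (i + 1) && S.any (fun k => Nat.beq k e.2.2) &&
        Nat.beq e.1 (mapply (genCols.getD e.2.2 []) (L.getD e.2.1 (0, 0, 0)).1)) &&
    (List.range 78).all fun j => Nat.beq (mapply (L.map fun e => e.1) (T.getD j 0)) (unitCode j)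

end Cfsg.Agent.Fus.E6Fi22
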