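import Cfsg.Agent.Lib.Lie.Chev.FoldF4Twisted
import Cfsg.Agent.Lib.Lie.Chev.DiagInGroup

/-!
Elements of `E₆` with a multiple of a diagonal matrix, and the diagonal automorphism of order three of the
twisted group over four elements.
-/

set_option autoImplicit false
set_option maxHeartbeats 400000

namespace Cfsg.Agent.Fus.E6Fi22

open Cfsg Cfsg.Lie Matrix Cfsg.Agent.Lie.Chev

section Scaled

variable {D : ChevalleyDatum} (c : CertFull D) {F : Type*} [Field F]

include c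

/-- An element of the group whose matrix is a multiple of a diagonal one lies in the diagonal subgroup. -/
theorem scaled_diag_mem {l : F} {χ : ℕ → Fˣ} {g : GL D.Idx F} (hg : g ∈ D.group F) (hl : l ≠ 0)
    (hrank : 0 < D.rank) (hval : (g : Matrix D.Idx D.Idx F) = l • (dg D F χ : Matrix D.Idx D.Idx F)) :
    dg D F χ ∈ D.diagonalSubgroup F := by
  have hdiag : ∀ {lv : D.Idx → ℕ} {u v : GL D.Idx F}, u ∈ unitri D F lv → v ∈ unitri D F lv → ∀ j,
      ((u * g * v : GL D.Idx F) : Matrix D.Idx D.Idx F) j j = l * D.charDiag F χ j j := by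
    intro lv u v hu hv j
    rw [← c.diag_of_unitri hu hv χ j, Units.val_mul, Units.val_mul, hval, Matrix.mul_smul,
      Matrix.smul_mul, Matrix.smul_apply, smul_eq_mul, Units.val_mul, Units.val_mul]
  obtain ⟨b, hb, a, ha, L, hL, u, hu, e⟩ := c.bruhat_exists hg
  have huU := c.KS_invSet_le_U hL hu
  obtain ⟨u₁, hu₁, a₁, ha₁, rfl⟩ := c.mem_borel_iff.1 hb
  have ha' : a₁ * a ∈ D.diagonalSubgroup F := mul_mem ha₁ ha
  have hu1' := c.posUnipotent_le_unitri hu₁
  have hu' := c.posUnipotent_le_unitri huU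
  have hm : a₁ * a * c.nw F L = u₁⁻¹ * g * u⁻¹ := by rw [e]; group
  have hwl : ∀ s < D.nroots, c.wl L s = s := by
    intro s hs
    by_contra hne
    obtain ⟨k, -, hk⟩ := c.H_smul_evec ha' (c.wl L s)
    have h3 := congrFun (show ((a₁ * a * c.nw F L : GL D.Idx F) : Matrix D.Idx D.Idx F) *ᵥ
        evec D F s = ((c.wsign L s : F) * k) • evec D F (c.wl L s) by
      rw [Units.val_mul, ← Matrix.mulVec_mulVec, c.nw_evec hL hs, Matrix.mulVec_smul, hk,
        smul_smul]) (Sum.inr ⟨s, hs⟩)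
    rw [← single_inr D F ⟨s, hs⟩, Matrix.mulVec_single_one, Matrix.col_apply, hm,
      hdiag (inv_mem hu1') (inv_mem hu')] at h3
    simp [evec, Ne.symm hne, hl, ChevalleyDatum.charDiag] at h3
  have hH : a₁ * a * c.nw F L ∈ D.diagonalSubgroup F :=
    c.mem_H_of_wl ha' hL fun q hq => by
      rw [hwl _ (c.simple_lt hq)]; exact c.pos_simple hq
  have hl1 : l = 1 := by
    obtain ⟨z, hz⟩ := (c.diagonalSubgroup_eq (F := F)).le hH
    have := congrArg (fun y : GL D.Idx F => (y : Matrix D.Idx D.Idx F) (Sum.inl ⟨0, hrank⟩) (Sum.inl ⟨0, hrank⟩)) hz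
    rw [hm, hdiag (inv_mem hu1') (inv_mem hu'), c.torus_apply, dg_val] at this
    simpa [ChevalleyDatum.charDiag] using this.symm
  have hg' : g = dg D F χ := Units.ext (by rw [hval, hl1, one_smul])
  exact c.diag_mem_H (hg' ▸ hg)

end Scaled

open F4in2E6 in
/-- The invariant of a character on the six simple roots. -/
noncomputable def inv {K : Type*} [Field K] (χ : ℕ → Kˣ) : Kˣ :=
  ∏ q ∈ Finset.range 6, χ (chevE6.simple q) ^ cls.getD q 0

variable {K : Type*} [Field K] [Fintype K] (hK : Fintype.card K = 4)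

include hK

theorem inv_tchar (w : ℕ → Kˣ) : inv (certFullE6.tchar w) = 1 := by
  have h2 := F4in2E6.checks.2.1
  simp only [List.all_eq_true, List.mem_range, decide_eq_true_eq] at h2
  simp only [inv, Cert.tchar, ← Finset.prod_zpow, ← _root_.zpow_mul]
  rw [Finset.prod_comm]
  refine Finset.prod_eq_one fun i hi => ?_
  rw [zpow_sum_eq]
  have hi' : i < 6 := Finset.mem_range.1 hi
  obtain ⟨m', hm'⟩ := Int.dvd_of_emod_eq_zero (h2 i hi')
  have e : ∑ q ∈ Finset.range 6, certFullE6.T.cartan i (chevE6.simple q) * F4in2E6.cls.getD q 0 =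
      3 * m' := by
    rw [← hm', ← List.sum_toFinset _ List.nodup_range, List.toFinset_range]
    exact Finset.sum_congr rfl fun q hq => by
      rw [certFullE6.simple_eq (Finset.mem_range.1 hq)]
  rw [e, _root_.zpow_mul, zpow_ofNat, F4in2E6.units_cube hK, _root_.one_zpow]

/-- A diagonal element of order three which normalises the twisted group and whose powers lie in it, even up
to scalars, only if trivial. -/
theorem exists_delta : ∃ δ : GL chevE6.Idx K, δ ^ 3 = 1 ∧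
    (∀ n : ℕ, ∀ g ∈ twistedE6 K 2, δ ^ n * g * (δ ^ n)⁻¹ ∈ twistedE6 K 2) ∧
    ∀ (m : ℕ) (l : K), ∀ t ∈ twistedE6 K 2, (t : Matrix chevE6.Idx chevE6.Idx K) =
      l • ((δ ^ m : GL chevE6.Idx K) : Matrix chevE6.Idx chevE6.Idx K) → 3 ∣ m := by
  classical
  haveI : Nonempty chevE6.Idx := ⟨Sum.inl ⟨0, by decide⟩⟩
  have hK' : Fintype.card K = 2 ^ 2 := by rw [hK]; norm_num
  obtain ⟨f, hf⟩ := exists_qPow (q := 2) (e := 2) Nat.prime_two.isPrimePow hK'
  have hfix : twistedE6 K 2 = (E6.tw f).fix := (E6.datum f hf hK').eq_fix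
  obtain ⟨ω, hω1, hω3⟩ := F4in2E6.exists_omega hK
  let z : Fin chevE6.rank → Kˣ := fun p => ω ^ (([1, 0, 0, 0, 0, 2] : List ℤ).getD p 0)
  set χ := certFullE6.nodeChar z with hχ
  have hχc := certFullE6.nodeChar_isRootCharacter z
  have hχr : ∀ r, χ r = ω ^ F4in2E6.expD certFullE6.T r := by
    intro r
    show ∏ p : Fin 6, z p ^ certFullE6.T.vec r p = _
    simp [Fin.prod_univ_six, z, F4in2E6.expD, ← _root_.zpow_mul, ← _root_.zpow_add]
  have hperiod : ∀ {m n : ℤ}, (m - n) % 3 = 0 → ω ^ m = ω ^ n := by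
    intro m n h
    rw [zpow_eq_zpow_iff_modEq, hω3]
    exact (Int.modEq_iff_dvd.2 (Int.dvd_of_emod_eq_zero (by omega))).symm.symm
  have hfχ : ∀ r < chevE6.nroots, f (χ r : K) = (χ (graphE6.ρ r) : K) := by
    intro r hr
    have h1 := F4in2E6.checks.1
    simp only [List.all_eq_true, List.mem_range, decide_eq_true_eq] at h1
    rw [hf, ← Units.val_pow_eq_pow_val, hχr, hχr]
    congr 1
    rw [← zpow_natCast, ← _root_.zpow_mul, mul_comm]
    exact hperiod (h1 r hr)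
  set δ : GL chevE6.Idx K := dg chevE6 K χ with hδ
  have hm : (Matrix.GeneralLinearGroup.map f δ : Matrix chevE6.Idx chevE6.Idx K) =
      chevE6.charDiag K fun r => Units.map (f : K →* K) (χ r) := by
    ext a b
    show f (chevE6.charDiag K χ a b) = _
    rcases a with a | a <;> rcases b with b | b <;>
      simp [ChevalleyDatum.charDiag, Matrix.diagonal_apply, apply_ite f]
  have hδσ : graphE6.unit K * Matrix.GeneralLinearGroup.map f δ = δ * graphE6.unit K := by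
    refine Units.ext (mat_ext chevE6 K (fun i hi => ?_) fun r hr => ?_)
    · rw [Units.val_mul, Units.val_mul, ← Matrix.mulVec_mulVec, ← Matrix.mulVec_mulVec, hm,
        charDiag_hvec]
      show graphE6.mat K *ᵥ _ = chevE6.charDiag K χ *ᵥ (graphE6.mat K *ᵥ _)
      rw [graphE6.mat_hvec K hi, charDiag_hvec]
    · rw [Units.val_mul, Units.val_mul, ← Matrix.mulVec_mulVec, ← Matrix.mulVec_mulVec, hm,
        charDiag_evec, Matrix.mulVec_smul]
      show _ • (graphE6.mat K *ᵥ _) = chevE6.charDiag K χ *ᵥ (graphE6.mat K *ᵥ _)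
      rw [graphE6.mat_evec K hr, Matrix.mulVec_smul, charDiag_evec, smul_smul, smul_smul, mul_comm]
      congr 2
      exact hfχ r hr
  have hact : ∀ g ∈ chevE6.group K,
      (E6.tw f).act g = graphE6.unit K * Matrix.GeneralLinearGroup.map f g * (graphE6.unit K)⁻¹ :=
    fun g hg => (E6.tw f).act_eq hg
  have hnorm : ∀ g ∈ twistedE6 K 2, δ * g * δ⁻¹ ∈ twistedE6 K 2 := by
    intro g hg
    rw [hfix] at hg ⊢
    obtain ⟨hgG, hga⟩ := (E6.tw f).mem_fix.1 hg
    refine (E6.tw f).mem_fix.2 ⟨certFullE6.dg_conj_group hχc hgG, ?_⟩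
    rw [hact _ hgG] at hga
    rw [hact _ (certFullE6.dg_conj_group hχc hgG), map_mul, map_mul, map_inv]
    calc graphE6.unit K * (Matrix.GeneralLinearGroup.map f δ * Matrix.GeneralLinearGroup.map f g *
          (Matrix.GeneralLinearGroup.map f δ)⁻¹) * (graphE6.unit K)⁻¹
        = (graphE6.unit K * Matrix.GeneralLinearGroup.map f δ) *
            Matrix.GeneralLinearGroup.map f g *
            (graphE6.unit K * Matrix.GeneralLinearGroup.map f δ)⁻¹ := by group
      _ = δ * (graphE6.unit K * Matrix.GeneralLinearGroup.map f g * (graphE6.unit K)⁻¹) * δ⁻¹ := by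
          rw [hδσ]; group
      _ = _ := by rw [hga]
  refine ⟨δ, ?_, ?_, ?_⟩
  · rw [hδ, ← map_pow, ← map_one (dg chevE6 K)]
    exact dg_ext chevE6 K fun r _ => F4in2E6.units_cube hK _
  · intro n
    induction n with
    | zero => intro g hg; simpa using hg
    | succ n ih =>
      intro g hg
      have := hnorm _ (ih g hg)
      rw [pow_succ']
      simpa [mul_assoc] using this
  · intro m l t ht hval
    have htG : t ∈ chevE6.group K := (E6.tw f).fix_le_group (hfix ▸ ht)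
    have hl : l ≠ 0 := by
      rintro rfl
      rw [zero_smul] at hval
      exact t.isUnit.ne_zero hval
    rw [hδ, ← map_pow] at hval
    have hd := scaled_diag_mem certFullE6 htG hl (by decide) hval
    obtain ⟨w, hw⟩ := (certFullE6.diagonalSubgroup_eq (F := K)).le hd
    rw [certFullE6.torus_apply] at hw
    have hroot : ∀ r < chevE6.nroots, certFullE6.tchar w r = (χ ^ m) r := by
      intro r hr
      refine Units.ext ?_
      have := congrArg (fun y : GL chevE6.Idx K =>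
        (y : Matrix chevE6.Idx chevE6.Idx K) (Sum.inr ⟨r, hr⟩) (Sum.inr ⟨r, hr⟩)) hw
      simpa only [dg_val, ChevalleyDatum.charDiag, Matrix.diagonal_apply_eq, Sum.elim_inr] using this
    have h5 : inv (χ ^ m) = 1 := by
      rw [← inv_tchar hK w]
      exact Finset.prod_congr rfl fun q hq => by
        rw [hroot _ (certFullE6.simple_lt (Finset.mem_range.1 hq))]
    have hval' : ∀ q : Fin chevE6.rank, (χ ^ m) (chevE6.simple q) = z q ^ m := fun q => by
      rw [Pi.pow_apply, hχ, certFullE6.nodeChar_simple]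
    simp only [inv, Finset.prod_range_succ, Finset.prod_range_zero, one_mul] at h5
    rw [hval' ⟨0, by decide⟩, hval' ⟨1, by decide⟩, hval' ⟨2, by decide⟩, hval' ⟨3, by decide⟩,
      hval' ⟨4, by decide⟩, hval' ⟨5, by decide⟩] at h5
    change ((ω ^ (1 : ℤ)) ^ m) ^ (1 : ℤ) * ((ω ^ (0 : ℤ)) ^ m) ^ (0 : ℤ) *
      ((ω ^ (0 : ℤ)) ^ m) ^ (2 : ℤ) * ((ω ^ (0 : ℤ)) ^ m) ^ (0 : ℤ) *
      ((ω ^ (0 : ℤ)) ^ m) ^ (1 : ℤ) * ((ω ^ (2 : ℤ)) ^ m) ^ (2 : ℤ) = 1 at h5
    have h6 : ω ^ (5 * m) = 1 := by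
      rw [← h5]
      simp only [← _root_.zpow_natCast, ← _root_.zpow_mul, ← _root_.zpow_add]
      congr 1
      push_cast
      ring
    have := orderOf_dvd_of_pow_eq_one h6
    rw [hω3] at this
    omega

/-- Three classes of subgroups from an embedding with scalar centraliser of a group all whose automorphisms
square to inner ones. -/
theorem three_of_embedding {G : Type*} [Group G] [Finite G] (ρ : G →* GL chevE6.Idx K)
    (hinj : Function.Injective ρ) (hT : ∀ x, ρ x ∈ twistedE6 K 2)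
    (hcent : ∀ C : GL chevE6.Idx K, (∀ x, C * ρ x = ρ x * C) →
      ∃ c : K, (C : Matrix chevE6.Idx chevE6.Idx K) = c • 1)
    (hsq : ∀ φ : G ≃* G, ∃ y, ∀ x, φ (φ x) = y * x * y⁻¹) :
    ∃ H : Fin 3 → Subgroup ↥(twistedE6 K 2), (∀ i, Nonempty (↥(H i) ≃* G)) ∧
      ∀ i j, i ≠ j → ∀ g : ↥(twistedE6 K 2), (H i).map (MulAut.conj g).toMonoidHom ≠ H j := by
  haveI : Nonempty chevE6.Idx := ⟨Sum.inl ⟨0, by decide⟩⟩
  obtain ⟨δ, hδ3, hnorm, hout⟩ := exists_delta hK
  let Ψ : ℕ → (G →* ↥(twistedE6 K 2)) := fun n =>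
    MonoidHom.mk' (fun x => ⟨δ ^ n * ρ x * (δ ^ n)⁻¹, hnorm n _ (hT x)⟩) fun a b =>
      Subtype.ext (by simp [mul_assoc])
  have hΨinj : ∀ n, Function.Injective (Ψ n) := fun n a b e =>
    hinj (by simpa [Ψ] using congrArg Subtype.val e)
  refine ⟨fun i => (Ψ i.1).range, fun i => ⟨(MonoidHom.ofInjective (hΨinj i.1)).symm⟩,
    fun i j hij g hg => ?_⟩
  obtain ⟨k, hk⟩ : ∃ k, k = i.1 + 2 * j.1 := ⟨_, rfl⟩
  have hk3 : ¬ (3 : ℕ) ∣ k := fun h => hij (Fin.ext (by omega))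
  have hδk : δ ^ k = (δ ^ j.1)⁻¹ * δ ^ i.1 := by
    rw [hk, eq_inv_mul_iff_mul_eq, ← pow_add, show j.1 + (i.1 + 2 * j.1) = i.1 + 3 * j.1 by ring,
      pow_add, pow_mul, hδ3, one_pow, mul_one]
  obtain ⟨n, hn⟩ : ∃ n, n = (δ ^ j.1)⁻¹ * g.1 * δ ^ i.1 := ⟨_, rfl⟩
  have hnR : ∀ x, ∃ y, n * ρ x * n⁻¹ = ρ y := by
    intro x
    have : (MulAut.conj g) (Ψ i.1 x) ∈ (Ψ j.1).range :=
      hg.le (Subgroup.mem_map_of_mem _ ⟨x, rfl⟩)
    obtain ⟨y, hy⟩ := this
    refine ⟨y, ?_⟩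
    have e := congrArg Subtype.val hy
    change δ ^ j.1 * ρ y * (δ ^ j.1)⁻¹ = g.1 * (δ ^ i.1 * ρ x * (δ ^ i.1)⁻¹) * (g.1)⁻¹ at e
    rw [hn]
    calc (δ ^ j.1)⁻¹ * g.1 * δ ^ i.1 * ρ x * ((δ ^ j.1)⁻¹ * g.1 * δ ^ i.1)⁻¹
        = (δ ^ j.1)⁻¹ * (g.1 * (δ ^ i.1 * ρ x * (δ ^ i.1)⁻¹) * (g.1)⁻¹) * δ ^ j.1 := by group
      _ = _ := by rw [← e]; group
  choose φ hφ using hnR
  let φh : G →* G := MonoidHom.mk' φ fun a b =>
    hinj (by rw [map_mul, ← hφ, ← hφ, ← hφ, map_mul]; group)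
  have hφinj : Function.Injective φh := fun a b e => hinj (by
    have e1 := hφ a
    rw [show φ a = φ b from e, ← hφ b] at e1
    simpa using e1)
  obtain ⟨y, hy⟩ := hsq (MulEquiv.ofBijective φh (Finite.injective_iff_bijective.1 hφinj))
  have hy' : ∀ x, n * (n * ρ x * n⁻¹) * n⁻¹ = ρ y * ρ x * (ρ y)⁻¹ := by
    intro x
    rw [hφ, hφ, ← map_inv, ← map_mul, ← map_mul]
    exact congrArg ρ (hy x)
  obtain ⟨C, hC⟩ : ∃ C, C = (ρ y)⁻¹ * (n * n) := ⟨_, rfl⟩
  obtain ⟨c, hc⟩ := hcent C fun x => by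
    rw [hC, ← mul_inv_eq_iff_eq_mul]
    calc (ρ y)⁻¹ * (n * n) * ρ x * ((ρ y)⁻¹ * (n * n))⁻¹
        = (ρ y)⁻¹ * (n * (n * ρ x * n⁻¹) * n⁻¹) * ρ y := by group
      _ = ρ x := by rw [hy']; group
  have hc0 : c ≠ 0 := by
    rintro rfl
    rw [zero_smul] at hc
    exact C.isUnit.ne_zero hc
  -- the square of `n` up to the twisted group
  obtain ⟨g', hg'T, hg'⟩ : ∃ g' ∈ twistedE6 K 2, n = g' * δ ^ k := by
    refine ⟨(δ ^ j.1)⁻¹ * g.1 * δ ^ j.1, ?_, by rw [hn, hδk]; group⟩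
    have h2 : (δ ^ j.1)⁻¹ = δ ^ (2 * j.1) := by
      rw [inv_eq_iff_mul_eq_one, ← pow_add, show j.1 + 2 * j.1 = 3 * j.1 by ring, pow_mul, hδ3,
        one_pow]
    have := hnorm (2 * j.1) g.1 g.2
    rwa [← h2, inv_inv] at this
  have hmem : (g' * (δ ^ k * g' * (δ ^ k)⁻¹))⁻¹ * ρ y ∈ twistedE6 K 2 :=
    mul_mem (inv_mem (mul_mem hg'T (hnorm k _ hg'T))) (hT y)
  have hkk : δ ^ (2 * k) = (g' * (δ ^ k * g' * (δ ^ k)⁻¹))⁻¹ * ρ y * C := by
    rw [hC, hg', two_mul, pow_add]; group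
  refine hk3 (?_ : 3 ∣ k)
  have h3 : 3 ∣ 2 * k := hout (2 * k) c⁻¹ _ hmem (by
    rw [hkk, Units.val_mul _ C, hc, Matrix.mul_smul, mul_one, smul_smul, inv_mul_cancel₀ hc0,
      one_smul])
  omega

end Cfsg.Agent.Fus.E6Fi22
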