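import Cfsg.Agent.Lib.Fus.E6Fi22.Gens
import Cfsg.Agent.Lib.Fus.E6Fi22.Diag
import Cfsg.Agent.Lib.Spor.Cos.Fi22.IsSimple

/-!
The image of `Fi₂₂` lies in the twisted group, and the homomorphism is injective.
-/

set_option autoImplicit false
set_option maxRecDepth 20000

namespace Cfsg.Agent.Fus.E6Fi22

open Cfsg Cfsg.Lie Matrix Cfsg.Agent.Lie.Chev

/-- A field with four elements has an element `ω`. -/
theorem exists_scalar {K : Type*} [Field K] [Fintype K] (hK : Fintype.card K = 4) :
    Nonempty (Scalar K) := by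
  haveI := F4in2E6.charP hK
  obtain ⟨ω, hω, -⟩ := F4in2E6.exists_omega hK
  refine ⟨⟨ω, ?_⟩⟩
  have h3 : (ω : K) ^ 3 = 1 := by rw [← Units.val_pow_eq_pow_val, F4in2E6.units_cube hK, Units.val_one]
  have hne : (ω : K) - 1 ≠ 0 := sub_ne_zero.2 fun e => hω (Units.ext e)
  have h : ((ω : K) - 1) * ((ω : K) * ω + ω + 1) = 0 := by linear_combination h3
  have h2 := (mul_eq_zero.1 h).resolve_left hne
  have ht : (2 : K) = 0 := CharTwo.two_eq_zero
  linear_combination h2 - ((ω : K) + 1) * ht

variable {K : Type*} [Field K] [CharP K 2] (S : Scalar K)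

/-- A block of letters gives a generator of the twisted group. -/
def blockOk : List ℕ → Bool
  | [a] => [46, 25, 39, 32].any (Nat.beq (a / 4)) && powB (letB a) 2 == letB a
  | [a, b] => [(56, 36), (15, 35), (42, 37), (29, 34)].any (fun p => Nat.beq p.1 (a / 4) && Nat.beq p.2 (b / 4)) &&
      powB (letB a) 2 == letB b
  | _ => false

theorem blocks_ok : tgens.all blockOk = true := by decide

variable [Fintype K]

theorem block_mem {l : List ℕ} (h : blockOk l = true) : wd S l ∈ twistedE6 K 2 := by
  haveI : Fact (Nat.Prime 2) := ⟨Nat.prime_two⟩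
  haveI : ExpChar K 2 := ExpChar.prime Nat.prime_two
  have hf : ∀ t : K, frobenius K 2 t = t ^ 2 := fun t => frobenius_def 2 t
  match l, h with
  | [a], h =>
    simp only [blockOk, Bool.and_eq_true, List.any_eq_true, Nat.beq_eq, beq_iff_eq] at h
    obtain ⟨⟨r, hr, he⟩, ht⟩ := h
    rw [show wd S [a] = certFullE6.xg (a / 4) (val S (letB a)) by simp [wd, letterEl]]
    refine E6.gen1 (frobenius K 2) hf (by rw [he]; exact hr) ?_
    rw [hf, ← val_pow, ht]
  | [a, b], h =>
    simp only [blockOk, Bool.and_eq_true, List.any_eq_true, Nat.beq_eq, beq_iff_eq] at h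
    obtain ⟨⟨⟨r, r'⟩, hr, e1, e2⟩, ht⟩ := h
    rw [show wd S [a, b] = certFullE6.xg (a / 4) (val S (letB a)) *
      certFullE6.xg (b / 4) (val S (letB b)) by simp [wd, letterEl], ← ht, val_pow, ← hf]
    exact E6.gen2 (frobenius K 2) hf (by rw [← e1, ← e2]; exact hr) _

theorem exists_mem : ∀ i < 39, ∃ g ∈ twistedE6 K 2, (g : Matrix chevE6.Idx chevE6.Idx K) = tabMat S i := by
  intro i
  induction i using Nat.strong_induction_on with
  | _ i ih =>
    intro hi
    by_cases h : i < 16
    · refine ⟨_, block_mem S ?_, base_mat S h⟩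
      have hb := blocks_ok
      simp only [List.all_eq_true] at hb
      have hlen : i < tgens.length := h
      rw [List.getD_eq_getElem _ _ hlen]
      exact hb _ (List.getElem_mem hlen)
    obtain ⟨k, rfl⟩ : ∃ k, i = k + 16 := ⟨i - 16, by omega⟩
    obtain ⟨-, hlt, he⟩ := step_mat S (show k < 23 by omega)
    rw [he]
    generalize (steps.getD k (0, [])).2 = w at hlt
    induction w with
    | nil => exact ⟨1, one_mem _, by simp [prodMat]⟩
    | cons j w ihw =>
      obtain ⟨g, hg, eg⟩ := ihw fun x hx => hlt x (by simp [hx])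
      obtain ⟨g', hg', eg'⟩ := ih j (hlt j (by simp)) ((hlt j (by simp)).trans hi)
      exact ⟨g' * g, mul_mem hg' hg, by rw [Units.val_mul, eg, eg']; simp [prodMat]⟩

theorem genEl_mem {k : ℕ} (hk : k < 9) : genEl S k ∈ twistedE6 K 2 := by
  obtain ⟨g, hg, eg⟩ := exists_mem S (gidx k) (gidx_lt hk)
  rwa [show genEl S k = g from Units.ext ((genEl_val S hk).trans eg.symm)]

theorem hom_mem (x : Spor.Fi22) : hom S x ∈ twistedE6 K 2 :=
  Subgroup.mem_comap.1 (PresentedGroup.generated_by _ ((twistedE6 K 2).comap (hom S))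
    (fun j => by rw [Subgroup.mem_comap, hom_of]; exact genEl_mem S (num_lt j)) x)

omit [Fintype K] in
theorem hom_ne_one : hom S (PresentedGroup.of Spor.Fi22.Gen.a) ≠ 1 := by
  intro e
  rw [hom_of] at e
  have h := congrArg (fun g : GL chevE6.Idx K => (g : Matrix chevE6.Idx chevE6.Idx K) (ix 77) (ix 1)) e
  have h2 : getB ((table.getD 18 []).getD 1 0) 77 = (true, false) := by decide +kernel
  simp only [show num Spor.Fi22.Gen.a = 0 from rfl, genEl_val S (show 0 < 9 by omega),
    show gidx 0 = 18 from rfl, Units.val_one, tabMat, colMat, Matrix.of_apply, vec, at',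
    enum_ix (show 1 < 78 by omega), enum_ix (show 77 < 78 by omega), h2, val_one] at h
  rw [Matrix.one_apply_ne fun e' => by
    have := congrArg (enum chevE6) e'
    rw [enum_ix (by omega), enum_ix (by omega)] at this
    omega] at h
  exact one_ne_zero h

omit [Fintype K] in
theorem hom_injective : Function.Injective (hom S) := by
  haveI := Cfsg.Agent.Spor.Cos.Fi22.isSimple
  rw [← MonoidHom.ker_eq_bot_iff]
  rcases (hom S).normal_ker.eq_bot_or_eq_top with h | h
  · exact h
  · exact absurd (MonoidHom.mem_ker.1 (h ▸ Subgroup.mem_top _)) (hom_ne_one S)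

end Cfsg.Agent.Fus.E6Fi22
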