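import Cfsg.Agent.Lib.Fus.E6Fi22.Code
import Cfsg.Agent.Lib.Fus.E6Fi22.ChkBase
import Cfsg.Agent.Lib.Fus.E6Fi22.ChkSteps
import Cfsg.Agent.Lib.Fus.E6Fi22.ChkRels
import Cfsg.Agent.Lib.Fus.E6Fi22.ChkCert
import Cfsg.Prelude.Def_Spor_Fi22

/-!
The homomorphism from `Fi₂₂` to the twisted group of type `E₆` over four elements, and the centraliser of its image.
-/

set_option autoImplicit false
set_option maxRecDepth 20000

namespace Cfsg.Agent.Fus.E6Fi22

open Cfsg Cfsg.Lie Matrix Cfsg.Agent.Lie.Chev

variable {K : Type*} [Field K] [CharP K 2] (S : Scalar K)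

local notation "Mat" => Matrix chevE6.Idx chevE6.Idx K

theorem mask_eq : mask = 2 ^ 128 - 1 := by norm_num [mask]

theorem testBit_mask (v k : ℕ) : (Nat.land v mask).testBit k = (decide (k < 128) && v.testBit k) := by
  rw [show Nat.land v mask = v &&& mask from rfl, mask_eq, Nat.testBit_and, Nat.testBit_two_pow_sub_one,
    Bool.and_comm]

theorem getB_wMul (v : ℕ) {k : ℕ} (hk : k < 128) : getB (wMul v) k = mulB (false, true) (getB v k) := by
  rw [wMul, force_eq]
  obtain ⟨x, hx⟩ : ∃ x, x = Nat.xor (Nat.land v mask) (Nat.land (Nat.shiftRight v 128) mask) := ⟨_, rfl⟩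
  rw [← hx]
  have hxb : ∀ i, x.testBit i = (decide (i < 128) && (v.testBit i ^^ v.testBit (128 + i))) := by
    intro i
    rw [hx, show Nat.xor (Nat.land v mask) (Nat.land (Nat.shiftRight v 128) mask) =
      Nat.land v mask ^^^ Nat.land (v >>> 128) mask from rfl, Nat.testBit_xor, testBit_mask, testBit_mask,
      Nat.testBit_shiftRight]
    cases decide (i < 128) <;> rfl
  have hlt : x < 2 ^ 128 := Nat.lt_pow_two_of_testBit _ fun i hi => by
    rw [hxb, decide_eq_false (by omega), Bool.false_and]
  have hm : Nat.mul x twin = 2 ^ 128 * x + x := by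
    show x * twin = _
    rw [show twin = 2 ^ 128 + 1 by norm_num [twin], mul_add, mul_one, mul_comm]
  simp only [getB, show ∀ a b, Nat.xor a b = a ^^^ b from fun _ _ => rfl, Nat.testBit_xor, hm,
    Nat.testBit_two_pow_mul_add x hlt, testBit_mask, hk, decide_true, Bool.true_and, if_true,
    show ¬(128 + k < 128) by omega, if_false, decide_false, Bool.false_and, Bool.xor_false,
    show 128 + k - 128 = k by omega, hxb]
  cases v.testBit k <;> cases v.testBit (128 + k) <;> rfl

theorem vec_wMul (v : ℕ) : vec S (wMul v) = S.w • vec S v := by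
  funext a
  rw [vec, at', getB_wMul v ((enum_lt_dim a).trans (by omega)), val_mul, Pi.smul_apply, smul_eq_mul]
  simp [vec, at', val]

theorem vec_lin : ∀ (M : List ℕ) (u : ℕ), vec S (lin M u) =
    ∑ j ∈ Finset.range M.length, if u.testBit j then vec S (M.getD j 0) else 0
  | [], u => by simp [lin, vec_zero]
  | c :: M, u => by
    rw [lin, force_eq, vec_xor, vec_lin M, List.length_cons, Finset.sum_range_succ', add_comm]
    congr 1
    · refine Finset.sum_congr rfl fun j _ => ?_
      rw [show Nat.shiftRight u 1 = u >>> 1 from rfl, Nat.testBit_shiftRight, List.getD_cons_succ,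
        add_comm 1 j]
    · rw [show Nat.land u 1 = u &&& 1 from rfl, Nat.and_one_is_mod, List.getD_cons_zero]
      rcases hb : u.testBit 0 with _ | _
      · rw [Nat.testBit_zero, decide_eq_false_iff_not] at hb
        rw [show u % 2 = 0 by omega, if_neg (by simp)]
        simp [show Nat.mul c 0 = 0 from rfl, vec_zero]
      · rw [Nat.testBit_zero, decide_eq_true_eq] at hb
        rw [hb, if_pos rfl, show Nat.mul c 1 = c from Nat.mul_one c]

/-- The matrix with the given coded columns. -/
noncomputable def colMat (M : List ℕ) : Mat := Matrix.of fun a b => vec S (M.getD (enum chevE6 b) 0) a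

theorem vec_mapply {M : List ℕ} (hM : M.length = 78) (v : ℕ) :
    vec S (mapply M v) = colMat S M *ᵥ vec S v := by
  simp only [mapply, force_eq]
  rw [vec_xor, vec_wMul, vec_lin, vec_lin, hM, Finset.smul_sum, ← Finset.sum_add_distrib]
  funext a
  rw [Finset.sum_apply, Matrix.mulVec, dotProduct]
  refine Finset.sum_bij' (fun j _ => ix j) (fun b _ => enum chevE6 b) (fun _ _ => Finset.mem_univ _)
    (fun b _ => Finset.mem_range.2 (enum_lt_dim b)) (fun j hj => enum_ix (Finset.mem_range.1 hj))
    (fun b _ => ix_enum b) fun j hj => ?_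
  have hj' : j < 128 := (Finset.mem_range.1 hj).trans (by omega)
  rw [colMat, Matrix.of_apply, testBit_mask, decide_eq_true hj', Bool.true_and,
    show Nat.shiftRight v 128 = v >>> 128 from rfl, Nat.testBit_shiftRight]
  simp only [vec, at', getB, enum_ix (Finset.mem_range.1 hj), val]
  cases v.testBit j <;> cases v.testBit (128 + j) <;>
    simp [vec, at', getB, val, mul_comm, mul_add] <;> ring

theorem mat_ext_units {A B : Mat} (h : ∀ j < 78, A *ᵥ vec S (unitCode j) = B *ᵥ vec S (unitCode j)) :
    A = B := by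
  refine Matrix.ext fun a b => ?_
  have := congrFun (h _ (enum_lt_dim b)) a
  rwa [vec_unit S (enum_lt_dim b), ix_enum, Matrix.mulVec_single_one, Matrix.mulVec_single_one,
    Matrix.col_apply, Matrix.col_apply] at this

/-- A matrix of the table. -/
noncomputable def tabMat (i : ℕ) : Mat := colMat S (table.getD i [])

/-- A product of matrices of the table. -/
noncomputable def prodMat (w : List ℕ) : Mat := (w.map (tabMat S)).prod

theorem table_length {i : ℕ} (hi : i < 39) : (table.getD i []).length = 78 := by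
  have h := checkTable
  simp only [Bool.and_eq_true, Nat.beq_eq, List.all_eq_true, okCols] at h
  have hi' : i < table.length := by rw [h.1]; exact hi
  rw [List.getD_eq_getElem _ _ hi']
  exact h.2 _ (List.getElem_mem hi')

theorem vec_gsteps : ∀ {w : List ℕ}, (∀ k ∈ w, k < 39) → ∀ v : ℕ,
    vec S (gsteps w v) = prodMat S w.reverse *ᵥ vec S v
  | [], _, v => by simp [gsteps, prodMat]
  | k :: w, h, v => by
    rw [gsteps, force_eq, vec_gsteps (w := w) (fun j hj => h j (by simp [hj])),
      vec_mapply S (table_length (h k (by simp))), Matrix.mulVec_mulVec]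
    simp [prodMat, tabMat]

theorem vec_gapply {w : List ℕ} (h : ∀ k ∈ w, k < 39) (v : ℕ) :
    vec S (gapply w v) = prodMat S w *ᵥ vec S v := by
  rw [gapply, vec_gsteps S (fun k hk => h k (by simpa using hk)), List.reverse_reverse]

theorem tabMat_col (i : ℕ) {j : ℕ} (hj : j < 78) :
    tabMat S i *ᵥ vec S (unitCode j) = vec S ((table.getD i []).getD j 0) := by
  rw [vec_unit S hj, Matrix.mulVec_single_one]
  funext a
  rw [Matrix.col_apply, tabMat, colMat, Matrix.of_apply, enum_ix hj]

theorem step_mat {k : ℕ} (hk : k < 23) :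
    (steps.getD k (0, [])).1 = k + 16 ∧ (∀ j ∈ (steps.getD k (0, [])).2, j < k + 16) ∧
      tabMat S (k + 16) = prodMat S (steps.getD k (0, [])).2 := by
  have hidx : (steps.getD k (0, [])).1 = k + 16 := by interval_cases k <;> rfl
  have h : (checkStep (steps.getD k (0, [])) 0 39 && checkStep (steps.getD k (0, [])) 39 39) = true := by
    interval_cases k
    exacts [checkStep0, checkStep1, checkStep2, checkStep3, checkStep4, checkStep5, checkStep6, checkStep7, checkStep8, checkStep9, checkStep10, checkStep11, checkStep12, checkStep13, checkStep14, checkStep15, checkStep16, checkStep17, checkStep18, checkStep19, checkStep20, checkStep21, checkStep22]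
  simp only [checkStep, Bool.and_eq_true, List.all_eq_true, List.mem_range'_1, Nat.blt_eq, Nat.beq_eq,
    hidx] at h
  refine ⟨hidx, h.1.1, mat_ext_units S fun j hj => ?_⟩
  have hw : ∀ l ∈ (steps.getD k (0, [])).2, l < 39 := fun l hl => (h.1.1 l hl).trans_le (by omega)
  rw [← vec_gapply S hw, tabMat_col S _ hj]
  congr 1
  rcases Nat.lt_or_ge j 39 with hj' | hj'
  · exact (h.1.2 j ⟨Nat.zero_le _, by omega⟩).symm
  · exact (h.2.2 j ⟨hj', by omega⟩).symm

theorem eq_of_check {v w : List ℕ} (h : checkEq v w = true) : prodMat S v = prodMat S w := by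
  simp only [checkEq, Bool.and_eq_true, List.all_eq_true, Nat.blt_eq, List.mem_range, Nat.beq_eq] at h
  refine mat_ext_units S fun j hj => ?_
  rw [← vec_gapply S h.1.1, ← vec_gapply S h.1.2, h.2 j hj]

theorem base_mat {i : ℕ} (hi : i < 16) :
    (wd S (tgens.getD i []) : Mat) = tabMat S i := by
  have h := List.all_eq_true.1 checkBase_all i (List.mem_range.2 hi)
  simp only [checkBase, Bool.and_eq_true, List.all_eq_true, List.mem_range, Nat.beq_eq] at h
  refine mat_ext_units S fun j hj => ?_
  rw [← vec_wapply S h.1, h.2 j hj, tabMat_col S _ hj]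

theorem isUnit_tabMat : ∀ i < 39, IsUnit (tabMat S i) := by
  intro i
  induction i using Nat.strong_induction_on with
  | _ i ih =>
    intro hi
    by_cases h : i < 16
    · rw [← base_mat S h]; exact Units.isUnit _
    obtain ⟨k, rfl⟩ : ∃ k, i = k + 16 := ⟨i - 16, by omega⟩
    obtain ⟨-, hlt, he⟩ := step_mat S (show k < 23 by omega)
    rw [he, prodMat]
    refine List.prod_induction _ (fun _ _ => IsUnit.mul) isUnit_one fun x hx => ?_
    obtain ⟨j, hj, rfl⟩ := List.mem_map.1 hx
    exact ih j (hlt j hj) ((hlt j hj).trans hi)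

theorem gidx_lt {k : ℕ} (hk : k < 9) : gidx k < 39 := by interval_cases k <;> decide

theorem genCols_eq {k : ℕ} (hk : k < 9) : genCols.getD k [] = table.getD (gidx k) [] := by
  interval_cases k <;> rfl

open Classical in
/-- The element of an involution. -/
noncomputable def genEl (k : ℕ) : GL chevE6.Idx K :=
  if h : IsUnit (tabMat S (gidx k)) then h.unit else 1

theorem genEl_val {k : ℕ} (hk : k < 9) : (genEl S k : Mat) = tabMat S (gidx k) := by
  rw [genEl, dif_pos (isUnit_tabMat S _ (gidx_lt hk))]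
  rfl

theorem gen_cols {k : ℕ} (hk : k < 9) :
    (genCols.getD k []).length = 78 ∧ colMat S (genCols.getD k []) = (genEl S k : Mat) := by
  rw [genCols_eq hk, genEl_val S hk]
  exact ⟨table_length (gidx_lt hk), rfl⟩

theorem vec_gen {k : ℕ} (hk : k < 9) (v : ℕ) :
    vec S (mapply (genCols.getD k []) v) = (genEl S k : Mat) *ᵥ vec S v := by
  rw [vec_mapply S (gen_cols S hk).1, (gen_cols S hk).2]

/-- A word in the involutions. -/
noncomputable def gev (w : List ℕ) : GL chevE6.Idx K := (w.map (genEl S)).prod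

theorem gev_val : ∀ {w : List ℕ}, (∀ k ∈ w, k < 9) → (gev S w : Mat) = prodMat S (w.map gidx)
  | [], _ => by simp [gev, prodMat]
  | k :: w, h => by
    have := gev_val (w := w) fun j hj => h j (by simp [hj])
    simp only [gev, prodMat, List.map_cons, List.prod_cons, Units.val_mul] at this ⊢
    rw [this, genEl_val S (h k (by simp))]

theorem gev_eq {v w : List ℕ} (hv : ∀ k ∈ v, k < 9) (hw : ∀ k ∈ w, k < 9)
    (h : checkEq (v.map gidx) (w.map gidx) = true) : gev S v = gev S w :=
  Units.ext (by rw [gev_val S hv, gev_val S hw, eq_of_check S h])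

/-- The label of two nodes. -/
def labelCode (i j : ℕ) : ℕ :=
  bif Nat.beq i j then 1
  else bif edgeCodes.any (fun e => (Nat.beq e.1 i && Nat.beq e.2 j) || (Nat.beq e.1 j && Nat.beq e.2 i))
    then 3 else 2

/-- The number of a generator of `Fi₂₂`. -/
def num : Spor.Fi22.Gen → ℕ
  | .a => 0 | .b => 1 | .c => 2 | .d => 3 | .e => 4 | .f => 5 | .g => 6 | .h => 7 | .i => 8

theorem num_lt : ∀ x, num x < 9 := by intro x; cases x <;> decide

theorem label_eq (x y : Spor.Fi22.Gen) :
    Spor.coxLabel Spor.Fi22.edges x y = labelCode (num x) (num y) := by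
  cases x <;> cases y <;> rfl

theorem row_ok {i : ℕ} (hi : i < 9) : checkRow i = true := by
  interval_cases i
  exacts [checkRow0, checkRow1, checkRow2, checkRow3, checkRow4, checkRow5, checkRow6, checkRow7, checkRow8]

theorem genEl_sq {i : ℕ} (hi : i < 9) : genEl S i * genEl S i = 1 := by
  have h := row_ok hi
  simp only [checkRow, Bool.and_eq_true] at h
  have := gev_eq S (v := [i, i]) (w := []) (by simp [hi]) (by simp) h.1
  simpa [gev] using this

theorem edge_symm {i j : ℕ} (hi : i < 9) (hj : j < 9) :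
    labelCode i j = labelCode j i ∧ (i < j → labelCode i j =
      bif edgeCodes.any (fun e => Nat.beq e.1 i && Nat.beq e.2 j) then 3 else 2) := by
  interval_cases i <;> interval_cases j <;> exact ⟨by rfl, fun h => by first | rfl | omega⟩

theorem pair_lt {i j : ℕ} (hi : i < 9) (hj : j < 9) (hij : i < j) :
    (genEl S i * genEl S j) ^ labelCode i j = 1 := by
  have h := row_ok hi
  simp only [checkRow, Bool.and_eq_true, List.all_eq_true, List.mem_range, Bool.or_eq_true,
    Nat.ble_eq] at h
  have h2 := (h.2 j hj).resolve_left (by omega)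
  rw [(edge_symm hi hj).2 hij]
  have hii := genEl_sq S hi
  have hjj := genEl_sq S hj
  cases he : edgeCodes.any (fun e => Nat.beq e.1 i && Nat.beq e.2 j) <;> rw [he] at h2 <;>
    simp only [cond_true, cond_false] at h2 ⊢
  · have e := gev_eq S (v := [i, j]) (w := [j, i]) (by simp [hi, hj]) (by simp [hi, hj]) h2
    simp only [gev, List.map_cons, List.map_nil, List.prod_cons, List.prod_nil, mul_one] at e
    rw [pow_two]
    nth_rewrite 2 [e]
    rw [mul_assoc, ← mul_assoc (genEl S j), hjj, one_mul, hii]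
  · have e := gev_eq S (v := [i, j, i]) (w := [j, i, j]) (by simp [hi, hj]) (by simp [hi, hj]) h2
    simp only [gev, List.map_cons, List.map_nil, List.prod_cons, List.prod_nil, mul_one, ← mul_assoc] at e
    calc (genEl S i * genEl S j) ^ 3
        = (genEl S i * genEl S j * genEl S i) * (genEl S j * genEl S i * genEl S j) := by
          rw [pow_succ, pow_two]; simp only [mul_assoc]
      _ = (genEl S j * genEl S i * genEl S j) * (genEl S j * genEl S i * genEl S j) := by rw [e]
      _ = genEl S j * genEl S i * (genEl S j * genEl S j) * genEl S i * genEl S j := by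
          simp only [mul_assoc]
      _ = 1 := by rw [hjj, mul_one, mul_assoc (genEl S j) (genEl S i) (genEl S i), hii, mul_one, hjj]

theorem pair_one {i j : ℕ} (hi : i < 9) (hj : j < 9) :
    (genEl S i * genEl S j) ^ labelCode i j = 1 := by
  rcases lt_trichotomy i j with h | h | h
  · exact pair_lt S hi hj h
  · subst h
    rw [genEl_sq S hi, one_pow]
  · have e := pair_lt S hj hi h
    rw [(edge_symm hi hj).1]
    rw [show genEl S i * genEl S j = (genEl S j)⁻¹ * (genEl S j * genEl S i) * ((genEl S j)⁻¹)⁻¹ by group,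
      conj_pow, e]
    group

theorem power_mat {b : ℕ} (hb : b = 11 ∨ b = 15 ∨ b = 19) :
    tabMat S (b + 19) = tabMat S (b + 16) ^ 8 ∧ tabMat S (b + 17) = tabMat S (b + 16) ^ 2 := by
  have h1 := (step_mat S (show b + 1 < 23 by omega)).2.2
  have h2 := (step_mat S (show b + 2 < 23 by omega)).2.2
  have h3 := (step_mat S (show b + 3 < 23 by omega)).2.2
  rcases hb with rfl | rfl | rfl <;>
    simp only [steps, List.getD_cons_succ, List.getD_cons_zero, prodMat, List.map_cons, List.map_nil,
      List.prod_cons, List.prod_nil, mul_one, Nat.reduceAdd] at h1 h2 h3 ⊢ <;>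
    exact ⟨by rw [h3, h2, h1]; simp only [← pow_two, ← pow_mul, Nat.reducePow, Nat.reduceMul],
      by rw [h1, pow_two]⟩

theorem extra_one {b e : ℕ} {w v : List ℕ} (hb : b = 11 ∨ b = 15 ∨ b = 19)
    (he : v = [b + 19, b + 17] ∧ e = 10 ∨ v = [b + 19, b + 16] ∧ e = 9)
    (hw : ∀ k ∈ w, k < 9) (hs : (steps.getD b (0, [])).2 = w.map gidx) (hc : checkEq v [] = true) :
    gev S w ^ e = 1 := by
  obtain ⟨h8, h2⟩ := power_mat S hb
  have hP : (gev S w : Mat) = tabMat S (b + 16) := by
    rw [gev_val S hw, (step_mat S (show b < 23 by omega)).2.2, hs]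
  have h := eq_of_check S hc
  refine Units.ext ?_
  rw [Units.val_pow_eq_pow_val, hP, Units.val_one]
  rcases he with ⟨rfl, rfl⟩ | ⟨rfl, rfl⟩ <;>
    simp only [prodMat, List.map_cons, List.map_nil, List.prod_cons, List.prod_nil, mul_one, h8, h2] at h
  · rw [← h, ← pow_add]
  · rw [← h, ← pow_succ]

theorem relators_one : ∀ r ∈ Spor.coxRelators Spor.Fi22.edges ∪ {r | r ∈ Spor.Fi22.extra},
    FreeGroup.lift (fun x => genEl S (num x)) r = 1 := by
  intro r hr
  rcases hr with ⟨x, -, y, -, rfl⟩ | hr
  · rw [map_pow, map_mul, FreeGroup.lift_apply_of, FreeGroup.lift_apply_of, label_eq]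
    exact pair_one S (num_lt x) (num_lt y)
  · have h := checkPowers
    simp only [Bool.and_eq_true] at h
    simp only [Set.mem_ofPred_eq, Spor.Fi22.extra, List.mem_cons, List.not_mem_nil, or_false] at hr
    have h1 := extra_one S (w := [3, 2, 1, 3, 4, 5, 3, 7, 8]) (b := 11) (e := 10) (Or.inl rfl)
      (Or.inl ⟨rfl, rfl⟩) (by decide) rfl h.1.1
    have h2 := extra_one S (w := [0, 1, 2, 3, 4, 5, 7]) (b := 15) (e := 9) (Or.inr (Or.inl rfl))
      (Or.inr ⟨rfl, rfl⟩) (by decide) rfl h.1.2
    have h3 := extra_one S (w := [1, 2, 3, 4, 5, 6, 7]) (b := 19) (e := 9) (Or.inr (Or.inr rfl))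
      (Or.inr ⟨rfl, rfl⟩) (by decide) rfl h.2
    rcases hr with rfl | rfl | rfl
    · rw [map_pow, ← h1]
      congr 1
    · rw [map_pow, ← h2]
      congr 1
    · rw [map_pow, ← h3]
      congr 1

/-- The homomorphism. -/
noncomputable def hom : Spor.Fi22 →* GL chevE6.Idx K :=
  PresentedGroup.toGroup (relators_one S)

theorem hom_of (x : Spor.Fi22.Gen) : hom S (PresentedGroup.of x) = genEl S (num x) :=
  PresentedGroup.toGroup.of _

theorem vec_zipIdxSum : ∀ (R : List (List ℕ)) (L : List ℕ) (j : ℕ),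
    (∀ M ∈ R, M.length = 78) → (∀ k ∈ L, k < 9) → j < 78 →
    vec S (zipIdxSum R L j) =
      ((List.zipWith (fun M k => colMat S M * ((genEl S k : Mat) - 1)) R L).sum) *ᵥ vec S (unitCode j)
  | [], L, j, _, _, _ => by cases L <;> simp [zipIdxSum, vec_zero]
  | M :: R, [], j, _, _, _ => by simp [zipIdxSum, vec_zero]
  | M :: R, k :: L, j, hR, hL, hj => by
    rw [zipIdxSum, force_eq, vec_xor, vec_mapply S (hR M (by simp)), vec_xor,
      vec_zipIdxSum R L j (fun N hN => hR N (by simp [hN])) (fun i hi => hL i (by simp [hi])) hj,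
      List.zipWith_cons_cons, List.sum_cons, Matrix.add_mulVec, ← Matrix.mulVec_mulVec]
    congr 2
    have e : vec S ((genCols.getD k []).getD j 0) = (genEl S k : Mat) *ᵥ vec S (unitCode j) := by
      rw [← (gen_cols S (hL k (by simp))).2, vec_unit S hj, Matrix.mulVec_single_one]
      funext a
      rw [Matrix.col_apply, colMat, Matrix.of_apply, enum_ix hj]
    rw [e, Matrix.sub_mulVec, Matrix.one_mulVec, sub_eq_add_neg, add_comm]
    congr 1
    funext a
    exact (CharTwo.neg_eq _).symm

/-- A matrix commuting with involutions whose common fixed space is a spanning line is scalar. -/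
theorem scalar_of_commute {R : List (List ℕ)} {L : List ℕ} {f v : ℕ} {P : List (ℕ × ℕ × ℕ)}
    {T G : List ℕ} (hF : checkFix R L f v = true) (hP : checkSpan P T G v = true) (hLG : ∀ k ∈ L, k ∈ G)
    (hG : ∀ k ∈ G, k < 9) {C : Mat} (hC : ∀ k ∈ G, C * (genEl S k : Mat) = (genEl S k : Mat) * C) :
    ∃ c : K, C = c • (1 : Mat) := by
  simp only [checkFix, okCols, Bool.and_eq_true, List.all_eq_true, List.mem_range, Nat.beq_eq, Nat.blt_eq] at hF
  obtain ⟨⟨⟨⟨⟨-, hf⟩, hL⟩, hR⟩, hfix⟩, hsum⟩ := hF
  simp only [checkSpan, okCols, Bool.and_eq_true, List.all_eq_true, List.mem_range, Nat.beq_eq, Nat.blt_eq,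
    List.any_eq_true] at hP
  obtain ⟨⟨⟨⟨⟨hPok, hPl⟩, hTl⟩, hP0⟩, hPs⟩, hT⟩ := hP
  obtain ⟨E, hE⟩ : ∃ E : Mat, E = (List.zipWith (fun M k => colMat S M * ((genEl S k : Mat) - 1)) R L).sum :=
    ⟨_, rfl⟩
  have hEmat : E = 1 + Matrix.of fun a b => if b = ix f then vec S v a else 0 := by
    refine mat_ext_units S fun j hj => ?_
    rw [hE, ← vec_zipIdxSum S R L j hR hL hj, hsum j hj, vec_xor, Matrix.add_mulVec,
      Matrix.one_mulVec]
    congr 1
    rw [vec_unit S hj, Matrix.mulVec_single_one]
    funext a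
    rw [Matrix.col_apply, Matrix.of_apply]
    by_cases hjf : j = f
    · rw [show Nat.beq j f = true by rw [Nat.beq_eq]; exact hjf, cond_true, if_pos (by rw [hjf])]
    · rw [show Nat.beq j f = false by rw [← Bool.not_eq_true, Nat.beq_eq]; exact hjf, cond_false,
        vec_zero, if_neg fun e => hjf (by rw [← enum_ix hj, e, enum_ix hf])]
      rfl
  have hline : ∀ u : chevE6.Idx → K, (∀ k ∈ L, (genEl S k : Mat) *ᵥ u = u) → u = u (ix f) • vec S v := by
    intro u hu
    have h0 : E *ᵥ u = 0 := by
      rw [hE]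
      clear hE hEmat hsum hR hfix hLG hL
      induction R generalizing L with
      | nil => simp
      | cons M R ih =>
        cases L with
        | nil => simp
        | cons k L =>
          rw [List.zipWith_cons_cons, List.sum_cons, Matrix.add_mulVec, ← Matrix.mulVec_mulVec,
            Matrix.sub_mulVec, Matrix.one_mulVec, hu k (by simp), sub_self, Matrix.mulVec_zero,
            zero_add, ih fun i hi => hu i (by simp [hi])]
    rw [hEmat, Matrix.add_mulVec, Matrix.one_mulVec, add_eq_zero_iff_eq_neg] at h0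
    funext a
    rw [congrFun h0 a]
    simp [Matrix.mulVec, dotProduct, Matrix.of_apply, CharTwo.neg_eq, mul_comm]
  have hCv : C *ᵥ vec S v = (C *ᵥ vec S v) (ix f) • vec S v := by
    refine hline _ fun k hk => ?_
    rw [Matrix.mulVec_mulVec, ← hC k (hLG k hk), ← Matrix.mulVec_mulVec]
    congr 1
    rw [← vec_gen S (hL k hk), hfix k hk]
  obtain ⟨c, hc⟩ : ∃ c : K, c = (C *ᵥ vec S v) (ix f) := ⟨_, rfl⟩
  rw [← hc] at hCv
  refine ⟨c, ?_⟩
  have hall : ∀ i < 78, C *ᵥ vec S (P.getD i (0, 0, 0)).1 = c • vec S (P.getD i (0, 0, 0)).1 := by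
    intro i
    induction i using Nat.strong_induction_on with
    | _ i ih =>
      intro hi
      rcases Nat.eq_zero_or_pos i with rfl | hpos
      · rw [hP0]; exact hCv
      obtain ⟨i, rfl⟩ : ∃ m, i = m + 1 := ⟨i - 1, by omega⟩
      obtain ⟨⟨hlt, k, hk, hk2⟩, he⟩ := hPs i (by omega)
      rw [he, ← hk2, vec_gen S (hG k hk), Matrix.mulVec_mulVec, hC k hk, ← Matrix.mulVec_mulVec,
        ih _ hlt (by omega), Matrix.mulVec_smul]
  refine mat_ext_units S fun j hj => ?_
  have hlen : (P.map fun e => e.1).length = 78 := by rw [List.length_map, hPl]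
  rw [Matrix.smul_mulVec, Matrix.one_mulVec, ← hT j hj, vec_mapply S hlen]
  generalize vec S (T.getD j 0) = u
  show C *ᵥ (colMat S _ *ᵥ u) = c • (colMat S _ *ᵥ u)
  have hCM : C * colMat S (P.map fun e => e.1) = c • colMat S (P.map fun e => e.1) := by
    refine Matrix.ext fun a b => ?_
    have hb := enum_lt_dim b
    have e := congrFun (hall _ hb) a
    rw [Matrix.smul_apply, smul_eq_mul, colMat, Matrix.of_apply]
    rw [Pi.smul_apply, smul_eq_mul] at e
    have hget : (P.map fun e => e.1).getD (enum chevE6 b) 0 = (P.getD (enum chevE6 b) (0, 0, 0)).1 :=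
      List.getD_map P ((0, 0, 0) : ℕ × ℕ × ℕ) fun e => e.1
    rw [hget, ← e]
    simp only [Matrix.mul_apply, Matrix.mulVec, dotProduct, Matrix.of_apply, hget]
  rw [Matrix.mulVec_mulVec, hCM, Matrix.smul_mulVec]

theorem centralizer_scalar {C : GL chevE6.Idx K} (hC : ∀ x, C * hom S x = hom S x * C) :
    ∃ c : K, (C : Mat) = c • (1 : Mat) := by
  have h := checkA
  rw [Bool.and_eq_true] at h
  refine scalar_of_commute S h.1 h.2 (by decide) (by decide) fun k hk => ?_
  obtain ⟨x, rfl⟩ : ∃ x, num x = k := by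
    simp only [List.mem_cons, List.not_mem_nil, or_false] at hk
    rcases hk with rfl | rfl | rfl | rfl | rfl | rfl | rfl | rfl | rfl
    exacts [⟨.a, rfl⟩, ⟨.b, rfl⟩, ⟨.c, rfl⟩, ⟨.d, rfl⟩, ⟨.e, rfl⟩, ⟨.f, rfl⟩, ⟨.g, rfl⟩, ⟨.h, rfl⟩, ⟨.i, rfl⟩]
  have e := congrArg (fun y : GL chevE6.Idx K => (y : Mat)) (hC (PresentedGroup.of x))
  simpa [hom_of] using e

theorem centralizer_scalar_sub {C : GL chevE6.Idx K}
    (hC : ∀ x, x ≠ Spor.Fi22.Gen.a → C * hom S (PresentedGroup.of x) = hom S (PresentedGroup.of x) * C) :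
    ∃ c : K, (C : Mat) = c • (1 : Mat) := by
  have h := checkB
  rw [Bool.and_eq_true] at h
  refine scalar_of_commute S h.1 h.2 (by decide) (by decide) fun k hk => ?_
  obtain ⟨x, hx, rfl⟩ : ∃ x, x ≠ Spor.Fi22.Gen.a ∧ num x = k := by
    simp only [List.mem_cons, List.not_mem_nil, or_false] at hk
    rcases hk with rfl | rfl | rfl | rfl | rfl | rfl | rfl | rfl
    exacts [⟨.b, by decide, rfl⟩, ⟨.c, by decide, rfl⟩, ⟨.d, by decide, rfl⟩, ⟨.e, by decide, rfl⟩,
      ⟨.f, by decide, rfl⟩, ⟨.g, by decide, rfl⟩, ⟨.h, by decide, rfl⟩, ⟨.i, by decide, rfl⟩]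
  have e := congrArg (fun y : GL chevE6.Idx K => (y : Mat)) (hC x hx)
  simpa [hom_of] using e

end Cfsg.Agent.Fus.E6Fi22
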