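import Cfsg.Agent.Lib.Classical.OrthModels
import Cfsg.Agent.Lib.Classical.OrthPOmegaCard
import Cfsg.Agent.Lib.Classical.OrthOdd
import Cfsg.Agent.Lib.Classical.OrthAutFrame
import Cfsg.Agent.Lib.Classical.OrthOmegaIndex

/-!
The orthogonal group `Ω₇(3)`: its centre is trivial and the square of every automorphism is inner.
-/

set_option autoImplicit false

namespace Cfsg.Agent.Fus.E6Fi22

open Cfsg Matrix Cfsg.Agent.Classical Cfsg.Agent.Classical.OrthAut

local instance fact_prime_three : Fact (Nat.Prime 3) := ⟨Nat.prime_three⟩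

theorem two_ne_zero3 : (2 : ZMod 3) ≠ 0 := by decide

variable {ι : Type} [Fintype ι] [DecidableEq ι] {Q : QuadraticForm (ZMod 3) (ι → ZMod 3)}
  (nd7 : (QuadraticMap.polarBilin Q).Nondegenerate) (tri7 : Tri Q) (h7 : Fintype.card ι = 7)
  (htop : gammaPOmega (ZMod 3) ⇑Q = ⊤)

include nd7 tri7 h7

/-- `Ω₇(3)` is its own central quotient. -/
theorem omega_equiv : Nonempty (POmega (ZMod 3) ⇑Q ≃* Omega (ZMod 3) ⇑Q) := by
  have hc : Nat.card (Subgroup.center (Omega (ZMod 3) ⇑Q)) = 1 := by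
    refine card_center_one nd7 tri7 (by omega) fun g hg hgv => ?_
    have h := det_omega hg
    rw [hgv, Matrix.det_neg, Matrix.det_one, mul_one, h7] at h
    have hne : (-1 : ZMod 3) ^ 7 ≠ 1 := by decide
    exact absurd h hne
  have hb : Subgroup.center (Omega (ZMod 3) ⇑Q) = ⊥ := Subgroup.eq_bot_of_card_eq _ hc
  exact ⟨(QuotientGroup.quotientMulEquivOfEq hb).trans QuotientGroup.quotientBot⟩

include htop

omit tri7 in
/-- Every automorphism is induced by an isometry. -/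
theorem exists_isometry (β : MulAut (POmega (ZMod 3) ⇑Q)) :
    ∃ U : isometryGroup (ZMod 3) ⇑Q, goHom Q ⟨(U : GL _ (ZMod 3)), isometry_mem_go U⟩ = β := by
  let emb : isometryGroup (ZMod 3) ⇑Q →* Geo.quadSimilarityGroup (F := ZMod 3) ⇑Q :=
    (isometryGroup (ZMod 3) ⇑Q).subtype.codRestrict _ isometry_mem_go
  have hle : gammaPOmega (ZMod 3) ⇑Q ≤ ((goHom Q).comp emb).range := by
    refine (Subgroup.closure_le _).2 ?_
    rintro b ⟨g, σ, hpair, hind⟩
    obtain rfl : σ = RingEquiv.refl (ZMod 3) :=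
      RingEquiv.ext fun x => RingHom.congr_fun (Subsingleton.elim (σ : ZMod 3 →+* ZMod 3) (RingHom.id _)) x
    obtain ⟨c, hc⟩ := hpair
    have hdet := det_sq_similarity nd7 (M := (g : Matrix _ _ (ZMod 3))) (c := (c : ZMod 3)) fun v => hc v
    have hc1 : (c : ZMod 3) = 1 := by
      rw [h7] at hdet
      have key : ∀ d e : ZMod 3, e ≠ 0 → d ^ 2 = e ^ 7 → e = 1 := by decide
      exact key _ _ c.ne_zero hdet
    have hg : g ∈ isometryGroup (ZMod 3) ⇑Q := mem_isometryGroup.2 fun v => by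
      have := hc v
      rw [hc1, one_mul] at this
      exact this
    exact ⟨⟨g, hg⟩, ((induced_iff _).1 hind).symm⟩
  obtain ⟨U, hU⟩ := hle (htop ▸ Subgroup.mem_top β)
  exact ⟨U, hU⟩

omit tri7 in
/-- The square of every automorphism is inner. -/
theorem sq_inner (β : MulAut (POmega (ZMod 3) ⇑Q)) : ∃ y, ∀ x, β (β x) = y * x * y⁻¹ := by
  obtain ⟨U, hU⟩ := exists_isometry nd7 h7 htop β
  have hUU : U * U ∈ Omega (ZMod 3) ⇑Q := by
    rw [omega_eq_ker nd7 (genQ_odd nd7 two_ne_zero3), MonoidHom.mem_ker, map_mul]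
    exact Prod.ext (Int.units_mul_self _) (Int.units_mul_self _)
  refine ⟨omPi (Q := Q) ⟨U * U, hUU⟩, fun x => ?_⟩
  rw [← MulAut.mul_apply, ← hU, ← map_mul, ← MulAut.conj_apply, conj_eq_goHom]
  rfl

omit nd7 tri7 h7 htop in
/-- The two facts for the standard form. -/
theorem omega7 :
    Nonempty (POmega (ZMod 3) (quadFormOdd 3 (ZMod 3)) ≃* Omega (ZMod 3) (quadFormOdd 3 (ZMod 3))) ∧
      ∀ β : MulAut (POmega (ZMod 3) (quadFormOdd 3 (ZMod 3))), ∃ y, ∀ x, β (β x) = y * x * y⁻¹ := by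
  have hg : gammaPOmega (ZMod 3) (quadFormOdd 3 (ZMod 3)) = ⊤ :=
    gamma_eq_top (qfOdd 3 (ZMod 3)) (coe_qfOdd 3) (nondegenerate_qfOdd 3 two_ne_zero3) (tri_qfOdd le_rfl)
      (good_qfOdd le_rfl)
  rw [← coe_qfOdd] at hg ⊢
  exact ⟨omega_equiv (nondegenerate_qfOdd 3 two_ne_zero3) (tri_qfOdd le_rfl) (by simp),
    sq_inner (nondegenerate_qfOdd 3 two_ne_zero3) (by simp) hg⟩

end Cfsg.Agent.Fus.E6Fi22
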