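import Cfsg.Agent.Lib.Fus.E6Fi22.Emb
import Cfsg.Agent.Lib.Fus.E6Fi22.O7Aut
import Cfsg.Agent.Lib.Fus.Fi22Out.Main
import Cfsg.Agent.S1686

/-!
Three classes of `Fi₂₂` and three classes of `Ω₇(3)` in `²E₆(2)`.
-/

set_option autoImplicit false

namespace Cfsg.Agent.Fus.E6Fi22

open Cfsg Cfsg.Lie Matrix Cfsg.Agent.Lie.Chev

/-- With an outer automorphism group of order two every square is inner. -/
theorem sq_inner_of_card_out {G : Type*} [Group G] (h : Nat.card (Out G) = 2) (φ : G ≃* G) :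
    ∃ y, ∀ x, φ (φ x) = y * x * y⁻¹ := by
  have hm : (QuotientGroup.mk φ : Out G) ^ 2 = 1 := by rw [← h]; exact pow_card_eq_one'
  rw [← QuotientGroup.mk_pow, QuotientGroup.eq_one_iff] at hm
  obtain ⟨y, hy⟩ := hm
  refine ⟨y, fun x => ?_⟩
  rw [← MulAut.conj_apply, hy, pow_two]
  rfl

variable {K : Type*} [Field K] [Fintype K] (hK : Fintype.card K = 4)

include hK

/-- Three classes of subgroups `Fi₂₂`. -/
theorem exists_three_fi22 :
    ∃ H : Fin 3 → Subgroup ↥(twistedE6 K 2), (∀ i, Spor.IsoFi22 (H i)) ∧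
      ∀ i j, i ≠ j → ∀ g : ↥(twistedE6 K 2), (H i).map (MulAut.conj g).toMonoidHom ≠ H j := by
  haveI := F4in2E6.charP hK
  haveI := Cfsg.Agent.Spor.Cos.Fi22.finite
  obtain ⟨S⟩ := exists_scalar hK
  exact three_of_embedding hK (hom S) (hom_injective S) (hom_mem S)
    (fun C hC => centralizer_scalar S hC) (sq_inner_of_card_out Fi22Out.card_out)

/-- Three classes of subgroups `Ω₇(3)`. -/
theorem exists_three_omega7 :
    ∃ H : Fin 3 → Subgroup ↥(twistedE6 K 2),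
      (∀ i, Nonempty ((H i) ≃* Omega (ZMod 3) (quadFormOdd 3 (ZMod 3)))) ∧
      ∀ i j, i ≠ j → ∀ g : ↥(twistedE6 K 2), (H i).map (MulAut.conj g).toMonoidHom ≠ H j := by
  haveI := F4in2E6.charP hK
  haveI := Cfsg.Agent.Spor.Cos.Fi22.finite
  obtain ⟨S⟩ := exists_scalar hK
  obtain ⟨⟨e₁⟩, hsq⟩ := omega7
  obtain ⟨e₂⟩ := Cfsg.Agent.S1686.result
  obtain ⟨L, ⟨e⟩, hL⟩ : ∃ L : Subgroup Spor.Fi22,
      Nonempty (L ≃* POmega (ZMod 3) (quadFormOdd 3 (ZMod 3))) ∧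
        ∀ x, x ≠ Spor.Fi22.Gen.a → PresentedGroup.of x ∈ L :=
    ⟨_, ⟨e₂⟩, fun x hx => ⟨FreeGroup.of x, Subgroup.subset_closure (by cases x <;> simp_all), rfl⟩⟩
  obtain ⟨H, hH, hne⟩ := three_of_embedding hK ((hom S).comp L.subtype)
    ((hom_injective S).comp Subtype.val_injective) (fun x => hom_mem S x)
    (fun C hC => centralizer_scalar_sub S fun x hx => hC ⟨_, hL x hx⟩) (fun φ => by
      obtain ⟨y, hy⟩ := hsq ((e.symm.trans φ).trans e)
      refine ⟨e.symm y, fun x => e.injective ?_⟩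
      have := hy (e x)
      simpa using this)
  exact ⟨H, fun i => (hH i).map fun f => f.trans (e.trans e₁), hne⟩

end Cfsg.Agent.Fus.E6Fi22
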